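import Cfsg.Agent.Lib.J4Seven.Facts
import Cfsg.Agent.Lib.J4Local.AutFacts

/-!
# Proof of the finite facts about elements of order seven
-/

set_option autoImplicit false
set_option linter.style.haveILetI false

namespace Cfsg.Agent.Lib.J4Seven

open Cfsg Cfsg.Agent.Lib.Golay Cfsg.Agent.Lib.Computation
open Cfsg.Agent.Lib.J4Local
open Cfsg.Agent.Lib.J4Local.AutModel
open Cfsg.Agent.Lib.J4Local.AutLocal
open Cfsg.Agent.Lib.J4Local.AutSylow
open Cfsg.Agent.Lib.J4Local.AutTwo
open Cfsg.Agent.Lib.FusionAlperin.MathieuCert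

namespace SevenData

/-- An inner element of order seven. -/
def aCode : ℕ := 977946142385489797270112026068388896
/-- An outer involution centralising it. -/
def wCode : ℕ := 21159163873795149579542675899648055
/-- An inner element sending it to its square. -/
def vCode : ℕ := 971229025345169243162215177199421472

/-- The search levels. -/
def levA : List OutTrivial.Level :=
  [⟨23, 1, [(23, 0)], []⟩,
   ⟨0, 1, [(0, 0)], []⟩,
   ⟨6, 7, [(6, 0), (22, 1), (17, 2), (20, 3), (7, 4), (21, 5), (12, 6)], [15864000]⟩,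
   ⟨9, 7, [(9, 0), (18, 1), (10, 2), (16, 3), (14, 4), (19, 5), (15, 6)],
    [902657, 1250945, 2019456, 2512448, 2854977, 3489985]⟩,
   ⟨2, 7, [(2, 0), (3, 1), (4, 2), (5, 3), (11, 4), (8, 5), (13, 6)],
    [15777, 21116, 39257, 42232, 52005, 63108]⟩,
   ⟨1, 1, [(1, 0)], [5279, 10558, 18147, 31554, 36294, 45159]⟩]

/-- The powers of the element. -/
def powers : List ℕ := (List.range 7).map fun i => OutTrivial.cpow aCode i

/-- The checks. -/
def sevenOk : Bool :=
  inBig aCode && Nat.beq (getW 5 aCode 23) 23 && !(Nat.beq (canon aCode) oneCode) &&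
    Nat.beq (OutTrivial.cpow aCode 7) oneCode &&
    ((List.range 7).all fun i => inBig (OutTrivial.cpow aCode i)) &&
    inBig wCode && !(Nat.beq (getW 5 wCode 23) 23) &&
    Nat.beq (mulP 24 5 wCode aCode) (mulP 24 5 aCode wCode) &&
    inBig vCode && Nat.beq (mulP 24 5 vCode aCode) (mulP 24 5 (OutTrivial.cpow aCode 2) vCode) &&
    OutTrivial.searchOk OutTrivial.M22Cert.data.spec aCode aCode powers levA &&
    OutTrivial.searchOk OutTrivial.M22Cert.data.spec aCode (OutTrivial.cpow aCode 3) [] levA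

theorem sevenOk_eq : sevenOk = true := by decide +kernel

theorem spec : inBig aCode = true ∧ getW 5 aCode 23 = 23 ∧ canon aCode ≠ oneCode ∧
    OutTrivial.cpow aCode 7 = oneCode ∧
    (∀ i < 7, inBig (OutTrivial.cpow aCode i) = true) ∧
    inBig wCode = true ∧ getW 5 wCode 23 ≠ 23 ∧
    mulP 24 5 wCode aCode = mulP 24 5 aCode wCode ∧
    inBig vCode = true ∧ mulP 24 5 vCode aCode = mulP 24 5 (OutTrivial.cpow aCode 2) vCode ∧
    OutTrivial.searchOk OutTrivial.M22Cert.data.spec aCode aCode powers levA = true ∧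
    OutTrivial.searchOk OutTrivial.M22Cert.data.spec aCode (OutTrivial.cpow aCode 3) [] levA = true := by
  have h := sevenOk_eq
  simp only [sevenOk, Bool.and_eq_true, Bool.not_eq_true', List.all_eq_true, List.mem_range,
    Nat.beq_eq, Bool.eq_false_iff, ne_eq] at h
  obtain ⟨⟨⟨⟨⟨⟨⟨⟨⟨⟨⟨h1, h2⟩, h3⟩, h4⟩, h5⟩, h6⟩, h7⟩, h8⟩, h9⟩, h10⟩, h11⟩, h12⟩ := h
  exact ⟨h1, h2, h3, h4, h5, h6, h7, h8, h9, h10, h11, h12⟩

/-- The element of order seven. -/
noncomputable def aA : AutM22 := aut aCode

theorem aut_cpow : ∀ i ≤ 7, inBig (OutTrivial.cpow aCode i) = true →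
    aut (OutTrivial.cpow aCode i) = aA ^ i := by
  intro i
  induction i with
  | zero => exact fun _ _ => by rw [pow_zero]; exact aut_one
  | succ n ih =>
    intro hn hb
    rw [pow_succ', ← ih (by omega) (spec.2.2.2.2.1 n (by omega))]
    exact (aut_mul spec.1 (spec.2.2.2.2.1 n (by omega)) hb rfl).symm

theorem aA_ne : aA ≠ 1 := by
  intro h
  obtain ⟨h1, -, h3, -⟩ := spec
  rw [aA, aut_eq h1, map_eq_one_iff toAut toAut.injective] at h
  have h' : gperm aCode = gperm oneCode := by
    rw [gperm_oneCode]; exact congrArg Subtype.val h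
  have hone : inBig oneCode = true := by decide +kernel
  have hc : canon aCode = aCode ∧ canon oneCode = oneCode := by decide +kernel
  exact h3 (by rw [hc.1]; exact eq_of_gperm (inBig_spec h1).1 (inBig_spec hone).1 hc.1 hc.2 h')

theorem order_aA : orderOf aA = 7 := by
  haveI : Fact (Nat.Prime 7) := ⟨by norm_num⟩
  refine orderOf_eq_prime ?_ aA_ne
  rw [← aut_cpow 7 le_rfl (by rw [spec.2.2.2.1]; decide +kernel), spec.2.2.2.1, aut_one]

theorem aA_mem_inn : aA ∈ inn := (aut_mem_inn spec.1).mpr spec.2.1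

theorem w_spec : aut wCode ∉ inn ∧ aut wCode * aA = aA * aut wCode :=
  ⟨fun h => spec.2.2.2.2.2.2.1 ((aut_mem_inn spec.2.2.2.2.2.1).mp h),
    aut_commute spec.2.2.2.2.2.1 spec.1 spec.2.2.2.2.2.2.2.1⟩

theorem v_spec : aut vCode * aA * (aut vCode)⁻¹ = aA ^ 2 := by
  obtain ⟨h1, -, -, -, h5, -, -, -, h9, h10, -⟩ := spec
  rw [← aut_cpow 2 (by norm_num) (h5 2 (by norm_num))]
  exact aut_conj h9 h1 (h5 2 (by norm_num)) h10

theorem inner_intertwiner {c' : ℕ} {allowed : List ℕ} (hb : inBig c' = true)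
    (hs : OutTrivial.searchOk OutTrivial.M22Cert.data.spec aCode c' allowed levA = true)
    {x : AutM22} (hx : x ∈ inn) (hc : x * aA = aut c' * x) :
    ∃ u ∈ allowed, ∀ hu : inBig u = true, aut u = x := by
  obtain ⟨g, rfl⟩ := toAut.surjective x
  have hn : (g : Equiv.Perm GolayPt) none = none := (toAut_mem_inn g).mp hx
  rw [aA, aut_eq spec.1, aut_eq hb, ← map_mul, ← map_mul] at hc
  have hc' : (g : Equiv.Perm GolayPt) * gperm aCode = gperm c' * g :=
    congrArg Subtype.val (toAut.injective hc)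
  obtain ⟨m1, m2, m3⟩ := mem_m22.mp ((mem_m22_iff g.2).mpr hn)
  have hholds : OutTrivial.M22Cert.data.spec.Holds (g : Equiv.Perm GolayPt) := by
    refine ⟨m1, fun i hi => ?_, fun m hm => ?_⟩
    · simp only [OutTrivial.M22Cert.data, List.mem_cons, List.not_mem_nil, or_false] at hi
      rcases hi with rfl | rfl
      · rw [show pt 23 = none from rfl, m2]; rfl
      · rw [show pt 0 = some 0 from rfl, m3]; rfl
    · simp [OutTrivial.M22Cert.data] at hm
  obtain ⟨u, hu, hue⟩ := OutTrivial.searchOk_spec hs hholds hc'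
  exact ⟨u, hu, fun h => by rw [aut_eq h]; exact congrArg toAut (Subtype.ext hue.symm)⟩

theorem cent_inn_a : inn ⊓ Subgroup.centralizer ({aA} : Set AutM22) = Subgroup.zpowers aA := by
  refine le_antisymm ?_ ((Subgroup.zpowers_le).mpr ⟨aA_mem_inn,
    Subgroup.mem_centralizer_singleton_iff.mpr rfl⟩)
  rintro x ⟨hx, hxc⟩
  obtain ⟨u, hu, hue⟩ := inner_intertwiner spec.1 spec.2.2.2.2.2.2.2.2.2.2.1 hx
    (Subgroup.mem_centralizer_singleton_iff.mp hxc)
  simp only [powers, List.mem_map, List.mem_range] at hu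
  obtain ⟨i, hi, rfl⟩ := hu
  rw [← hue (spec.2.2.2.2.1 i hi), aut_cpow i hi.le (spec.2.2.2.2.1 i hi)]
  exact Subgroup.npow_mem_zpowers aA i

theorem card_cent_inn_a : Nat.card ↥(inn ⊓ Subgroup.centralizer ({aA} : Set AutM22)) = 7 := by
  rw [cent_inn_a, Nat.card_zpowers, order_aA]

theorem card_cent_a : Nat.card ↥(Subgroup.centralizer ({aA} : Set AutM22)) = 14 := by
  rw [card_double (Subgroup.mem_centralizer_singleton_iff.mpr w_spec.2) w_spec.1, inf_comm,
    card_cent_inn_a]

theorem not_conj_cube (n : AutM22) : n * aA * n⁻¹ ≠ aA ^ 3 := by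
  intro h
  obtain ⟨c, hc, hce⟩ := inner_of_outer (c := n) (t := aA) w_spec.1 w_spec.2
  rw [h] at hce
  obtain ⟨u, hu, -⟩ := inner_intertwiner (spec.2.2.2.2.1 3 (by norm_num))
    spec.2.2.2.2.2.2.2.2.2.2.2 hc (by
      rw [aut_cpow 3 (by norm_num) (spec.2.2.2.2.1 3 (by norm_num)), ← hce, inv_mul_cancel_right])
  exact List.not_mem_nil hu

theorem pow_eq_mod (i : ℕ) : aA ^ i = aA ^ (i % 7) := by
  rw [← pow_mod_orderOf, order_aA]

theorem normalizer_image :
    (fun n => n * aA * n⁻¹) '' (Subgroup.normalizer ((Subgroup.zpowers aA : Subgroup AutM22) :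
      Set AutM22) : Set AutM22) = {aA ^ 1, aA ^ 2, aA ^ 4} := by
  set N := Subgroup.normalizer ((Subgroup.zpowers aA : Subgroup AutM22) : Set AutM22)
  have hv : aut vCode ∈ N := mem_normalizer_of_conj (by
    intro x hx
    obtain ⟨k, rfl⟩ := Subgroup.mem_zpowers_iff.mp hx
    rw [← conj_zpow, v_spec]
    exact zpow_mem (Subgroup.npow_mem_zpowers aA 2) k)
  have hv2 : ∀ i : ℕ, aut vCode * aA ^ i * (aut vCode)⁻¹ = aA ^ (2 * i) := fun i => by
    rw [← conj_pow, v_spec, ← pow_mul]
  classical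
  ext x
  constructor
  · rintro ⟨n, hn, rfl⟩
    have hmem := (Subgroup.mem_normalizer_iff.mp hn aA).mp (Subgroup.mem_zpowers aA)
    obtain ⟨k, hk⟩ := mem_zpowers_iff_mem_range_orderOf.mp hmem |> Finset.mem_image.mp
    obtain ⟨hk, hke⟩ := hk
    rw [Finset.mem_range, order_aA] at hk
    show n * aA * n⁻¹ ∈ _
    have hke' : n * aA * n⁻¹ = aA ^ k := hke.symm
    have hne : k ≠ 0 := by
      intro h0
      rw [h0, pow_zero, conj_eq_one_iff] at hke'
      exact aA_ne hke'
    have h3 : k ≠ 3 := fun h => not_conj_cube n (h ▸ hke')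
    have h5 : k ≠ 5 := by
      intro h5
      refine not_conj_cube (aut vCode * n) ?_
      rw [show aut vCode * n * aA * (aut vCode * n)⁻¹ =
        aut vCode * (n * aA * n⁻¹) * (aut vCode)⁻¹ by group, hke', hv2, h5, pow_eq_mod (2 * 5)]
    have h6 : k ≠ 6 := by
      intro h6
      refine not_conj_cube (aut vCode * aut vCode * n) ?_
      rw [show aut vCode * aut vCode * n * aA * (aut vCode * aut vCode * n)⁻¹ =
        aut vCode * (aut vCode * (n * aA * n⁻¹) * (aut vCode)⁻¹) * (aut vCode)⁻¹ by group, hke', hv2,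
        hv2, h6, pow_eq_mod (2 * (2 * 6))]
    rw [hke']
    interval_cases k <;> first | contradiction | exact Or.inl rfl | exact Or.inr (Or.inl rfl) | exact Or.inr (Or.inr rfl)
  · intro hx
    simp only [Set.mem_insert_iff, Set.mem_singleton_iff] at hx
    rcases hx with rfl | rfl | rfl
    · exact ⟨1, one_mem _, by simp⟩
    · exact ⟨_, hv, v_spec⟩
    · refine ⟨aut vCode * aut vCode, mul_mem hv hv, ?_⟩
      show aut vCode * aut vCode * aA * (aut vCode * aut vCode)⁻¹ = aA ^ (2 * 2)
      rw [← hv2 2, ← v_spec]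
      group

theorem card_normalizer_a :
    Nat.card ↥(Subgroup.normalizer ((Subgroup.zpowers aA : Subgroup AutM22) : Set AutM22)) = 42 := by
  classical
  set N := Subgroup.normalizer ((Subgroup.zpowers aA : Subgroup AutM22) : Set AutM22) with hN
  have hle : Subgroup.centralizer ({aA} : Set AutM22) ≤ N := fun x hx => mem_normalizer_of_conj (by
    intro y hy
    obtain ⟨k, rfl⟩ := Subgroup.mem_zpowers_iff.mp hy
    rw [← conj_zpow, Subgroup.mem_centralizer_singleton_iff.mp hx, mul_inv_cancel_right]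
    exact zpow_mem (Subgroup.mem_zpowers aA) k)
  have h := card_orbit N aA
  rw [normalizer_image, inf_eq_right.mpr hle, card_cent_a] at h
  have h3 : ({aA ^ 1, aA ^ 2, aA ^ 4} : Set AutM22).ncard = 3 := by
    have hd : ∀ i j : ℕ, i < 7 → j < 7 → aA ^ i = aA ^ j → i = j := fun i j hi hj e =>
      pow_injOn_Iio_orderOf (by rwa [Set.mem_Iio, order_aA]) (by rwa [Set.mem_Iio, order_aA]) e
    rw [Set.ncard_eq_three]
    exact ⟨_, _, _, fun e => absurd (hd 1 2 (by norm_num) (by norm_num) e) (by norm_num),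
      fun e => absurd (hd 1 4 (by norm_num) (by norm_num) e) (by norm_num),
      fun e => absurd (hd 2 4 (by norm_num) (by norm_num) e) (by norm_num), rfl⟩
  rw [h3] at h
  omega

theorem exists_conj {a : AutM22} (ha : orderOf a = 7) :
    ∃ g : AutM22, (Subgroup.zpowers aA).map (MulAut.conj g).toMonoidHom = Subgroup.zpowers a := by
  haveI : Fact (Nat.Prime 7) := ⟨by norm_num⟩
  have hf : (Nat.card AutM22).factorization 7 = 1 := by
    rw [AutModel.card_autM22, show (887040 : ℕ) = 7 ^ 1 * 126720 by norm_num,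
      Nat.factorization_mul (by norm_num) (by norm_num), Finsupp.add_apply,
      Nat.Prime.factorization_pow (by norm_num : Nat.Prime 7), Finsupp.single_eq_same,
      Nat.factorization_eq_zero_of_not_dvd (by norm_num : ¬ 7 ∣ 126720)]
  let P : Sylow 7 AutM22 := Sylow.ofCard (Subgroup.zpowers a)
    (by rw [Nat.card_zpowers, ha, hf, pow_one])
  let Q : Sylow 7 AutM22 := Sylow.ofCard (Subgroup.zpowers aA)
    (by rw [Nat.card_zpowers, order_aA, hf, pow_one])
  obtain ⟨g, hg⟩ := MulAction.exists_smul_eq AutM22 Q P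
  refine ⟨g, ?_⟩
  have h := congrArg (fun R : Sylow 7 AutM22 => (R : Subgroup AutM22)) hg
  simp only [Sylow.coe_subgroup_smul] at h
  exact h

theorem centralizer_zpowers (x : AutM22) :
    Subgroup.centralizer ({x} : Set AutM22) =
      Subgroup.centralizer ((Subgroup.zpowers x : Subgroup AutM22) : Set AutM22) := by
  rw [Subgroup.zpowers_eq_closure, Subgroup.centralizer_closure]

end SevenData

open SevenData in
/-- The finite facts hold. -/
theorem sevenFacts : SevenFacts := by
  have hC : ∀ a : AutM22, orderOf a = 7 → ∃ g : AutM22,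
      (Subgroup.centralizer ({aA} : Set AutM22)).map (MulAut.conj g).toMonoidHom =
        Subgroup.centralizer ({a} : Set AutM22) := by
    intro a ha
    obtain ⟨g, hg⟩ := exists_conj ha
    refine ⟨g, ?_⟩
    have hconv : ∀ x y : AutM22, (∀ z ∈ Subgroup.zpowers y, z * x = x * z) ↔ y * x = x * y := by
      intro x y
      refine ⟨fun h => h y (Subgroup.mem_zpowers y), fun h z hz => ?_⟩
      obtain ⟨k, rfl⟩ := Subgroup.mem_zpowers_iff.mp hz
      exact (Commute.zpow_left h k).eq
    ext x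
    rw [Subgroup.mem_map_equiv, Subgroup.mem_centralizer_singleton_iff,
      Subgroup.mem_centralizer_singleton_iff, eq_comm, ← hconv, eq_comm (a := x * a), ← hconv, ← hg]
    constructor
    · rintro h _ ⟨z, hz, rfl⟩
      have := congrArg (MulAut.conj g) (h z hz)
      rwa [map_mul, map_mul, MulEquiv.apply_symm_apply] at this
    · intro h z hz
      have := congrArg (MulAut.conj g).symm (h _ ⟨z, hz, rfl⟩)
      rwa [map_mul, map_mul, MulEquiv.toMonoidHom_eq_coe, MonoidHom.coe_coe,
        MulEquiv.symm_apply_apply] at this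
  refine ⟨fun a ha => ?_, fun a ha => ?_, fun a ha => ?_⟩
  · obtain ⟨g, hg⟩ := hC a ha
    rw [← hg, card_conj, card_cent_a]
  · obtain ⟨g, hg⟩ := hC a ha
    have hi : inn.map (MulAut.conj g).toMonoidHom = inn := by
      haveI := inn_normal
      exact Subgroup.Normal.map_conj_eq inn g
    rw [← hg, ← hi, ← Subgroup.map_inf _ _ _ (MulAut.conj g).injective, card_conj, card_cent_inn_a]
  · obtain ⟨g, hg⟩ := exists_conj ha
    rw [← hg, ← Subgroup.map_equiv_normalizer_eq, card_conj, card_normalizer_a]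

/-- The group M24 has commuting elements of orders seven and three. -/
theorem m24_seven_three : ∃ a b : Cfsg.M24, orderOf a = 7 ∧ orderOf b = 3 ∧ a * b = b * a := by
  have h : (let A := 852116769906818152850864593107520043
      let B := 12183478643284555938281194436267438
      inM24 A && inM24 B && Nat.beq (mulP 24 5 A B) (mulP 24 5 B A) &&
      Nat.beq (OutTrivial.cpow A 7) oneCode && Nat.beq (OutTrivial.cpow B 3) oneCode &&
      !(Nat.beq (getW 5 A 0) 0 && Nat.beq (getW 5 A 1) 1) &&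
      !(Nat.beq (getW 5 B 0) 0 && Nat.beq (getW 5 B 1) 1)) = true := by decide +kernel
  simp only [Bool.and_eq_true, Nat.beq_eq, Bool.not_eq_true', Bool.eq_false_iff, ne_eq] at h
  obtain ⟨⟨⟨⟨⟨⟨hA, hB⟩, hc⟩, hA7⟩, hB3⟩, hA1⟩, hB1⟩ := h
  have key : ∀ c, inM24 c = true → ∀ n, okCode (OutTrivial.cpow c n) = true ∧
      gperm (OutTrivial.cpow c n) = gperm c ^ n := by
    intro c hc n
    induction n with
    | zero => exact ⟨(by decide +kernel : okCode oneCode = true), gperm_oneCode⟩
    | succ n ih =>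
      refine ⟨okCode_mulP (okCode_of_inM24 hc) ih.1, ?_⟩
      rw [pow_succ', ← ih.2, ← gperm_mul (okCode_of_inM24 hc) ih.1]
      rfl
  have ord : ∀ (c n : ℕ) (hp : n.Prime) (hc : inM24 c = true), OutTrivial.cpow c n = oneCode →
      ¬ (getW 5 c 0 = 0 ∧ getW 5 c 1 = 1) → orderOf (⟨gperm c, gperm_mem_M24 hc⟩ : Cfsg.M24) = n := by
    intro c n hp hc hpow hne
    haveI : Fact n.Prime := ⟨hp⟩
    refine orderOf_eq_prime (Subtype.ext ?_) ?_
    · show gperm c ^ n = 1
      rw [← (key c hc n).2, hpow, gperm_oneCode]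
    · intro he
      have he' : gperm c = 1 := congrArg Subtype.val he
      refine hne ⟨?_, ?_⟩
      · have := idx_gperm (okCode_of_inM24 hc) (pt 0)
        rw [he', Equiv.Perm.one_apply, idx_pt (by norm_num)] at this
        exact this.symm
      · have := idx_gperm (okCode_of_inM24 hc) (pt 1)
        rw [he', Equiv.Perm.one_apply, idx_pt (by norm_num)] at this
        exact this.symm
  refine ⟨⟨_, gperm_mem_M24 hA⟩, ⟨_, gperm_mem_M24 hB⟩, ord _ 7 (by norm_num) hA hA7 hA1,
    ord _ 3 (by norm_num) hB hB3 hB1, Subtype.ext ?_⟩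
  show gperm _ * gperm _ = gperm _ * gperm _
  rw [← gperm_mul (okCode_of_inM24 hA) (okCode_of_inM24 hB), hc,
    gperm_mul (okCode_of_inM24 hB) (okCode_of_inM24 hA)]

end Cfsg.Agent.Lib.J4Seven
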