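import Cfsg.Agent.Lib.Involutions.Thompson

/-!
# The order of a group with two classes of involutions and prescribed centralizers

The configuration of the centralizer of an element of order seven in a group of J4 type.
-/

set_option autoImplicit false
set_option linter.unusedSectionVars false

namespace Cfsg.Agent.Lib.J4Seven.Count

open Cfsg.Agent.Lib.Involutions.Basic

variable {W : Type*} [Group W] [Finite W]

/-- Both factors of a product of two involutions commute with an involution that is a power of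
the product. -/
theorem commute_of_mem {u v e : W} (hu : orderOf u = 2) (hv : orderOf v = 2) (he : orderOf e = 2)
    (h : e ∈ Subgroup.zpowers (u * v)) : Commute u e ∧ Commute v e := by
  obtain ⟨k, hk⟩ := Subgroup.mem_zpowers_iff.mp h
  have hu2 := invol_mul_self hu
  have h1 := invert_zpow hu2 (invert_mul hu2 (invol_mul_self hv)) k
  rw [zpow_neg, hk, invol_inv he] at h1
  have hue : Commute u e := by
    show u * e = e * u
    calc u * e = u * e * (u * u) := by rw [hu2, mul_one]
      _ = (u * e * u) * u := by group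
      _ = e * u := by rw [h1]
  refine ⟨hue, ?_⟩
  have huv : Commute (u * v) e := hk ▸ (Commute.refl (u * v)).zpow_right k
  have h2 := hue.inv_left.mul_left huv
  rwa [inv_mul_cancel_left] at h2

/-- The data. -/
structure Config (P : W → Prop) (x w a q : W) : Prop where
  conj : ∀ g u, P u → P (g * u * g⁻¹)
  ox : orderOf x = 2
  ow : orderOf w = 2
  nx : ¬ P x
  pw : P w
  classes : ∀ u, orderOf u = 2 → IsConj x u ∨ IsConj w u
  card_x : Nat.card ↥(Subgroup.centralizer ({x} : Set W)) = 56
  card_w : Nat.card ↥(Subgroup.centralizer ({w} : Set W)) = 84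
  oa : orderOf a = 2
  xw : Commute x w
  xa : Commute x a
  wa : w * a * w = a * x
  na : ¬ P a
  pwx : P (w * x)
  inv_x : ∀ u, orderOf u = 2 → Commute u x → u = x ∨ u = a ∨ u = a * x ∨ u = w ∨ u = w * x
  oq : orderOf q = 3
  qw : Commute q w
  qx : x * q * x⁻¹ = q⁻¹
  inv_w : ∀ u, orderOf u = 2 → Commute u w →
    ∃ i : Fin 3, u = w ∨ u = q ^ (i : ℕ) * x * (q ^ (i : ℕ))⁻¹ ∨
      u = w * (q ^ (i : ℕ) * x * (q ^ (i : ℕ))⁻¹)

namespace Config

variable {P : W → Prop} {x w a q : W}

theorem sq_x (C : Config P x w a q) : x * x = 1 := invol_mul_self C.ox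

theorem sq_w (C : Config P x w a q) : w * w = 1 := invol_mul_self C.ow

theorem sq_a (C : Config P x w a q) : a * a = 1 := invol_mul_self C.oa

theorem of_conj (C : Config P x w a q) {u v : W} (h : IsConj u v) (hu : P u) : P v := by
  obtain ⟨g, rfl⟩ := isConj_iff.mp h
  exact C.conj g u hu

theorem not_conj (C : Config P x w a q) : ¬ IsConj w x := fun h => C.nx (C.of_conj h C.pw)

theorem conj_x_iff (C : Config P x w a q) {u : W} (hu : orderOf u = 2) :
    IsConj x u ↔ ¬ P u := by
  refine ⟨fun h hP => C.nx (C.of_conj h.symm hP), fun h => ?_⟩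
  exact (C.classes u hu).resolve_right fun h' => h (C.of_conj h' C.pw)

theorem conj_w_iff (C : Config P x w a q) {u : W} (hu : orderOf u = 2) :
    IsConj w u ↔ P u := by
  refine ⟨fun h => C.of_conj h C.pw, fun h => ?_⟩
  exact (C.classes u hu).resolve_left fun h' => C.nx (C.of_conj h'.symm h)

theorem orderOf_conj' (C : Config P x w a q) {u v : W} (h : IsConj u v) (hu : orderOf u = 2) :
    orderOf v = 2 := by
  obtain ⟨g, rfl⟩ := isConj_iff.mp h
  rw [orderOf_conj_eq, hu]

theorem invert_q (C : Config P x w a q) (i : ℕ) : x * q ^ i * x = (q ^ i)⁻¹ := by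
  have h : x * q * x = q⁻¹ := by
    have := C.qx
    rwa [invol_inv C.ox] at this
  have := invert_zpow C.sq_x h (i : ℤ)
  rwa [zpow_neg, zpow_natCast] at this

theorem qf_eq (C : Config P x w a q) (i : ℕ) :
    q ^ i * x * (q ^ i)⁻¹ = q ^ (2 * i) * x := by
  rw [← C.invert_q i, show q ^ i * x * (x * q ^ i * x) = q ^ i * (x * x) * q ^ i * x by group,
    C.sq_x, mul_one, ← pow_add, two_mul]

theorem count_w (C : Config P x w a q) :
    Nat.card {u : W × W // IsConj w u.1 ∧ IsConj x u.2 ∧ w ∈ Subgroup.zpowers (u.1 * u.2)} = 9 := by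
  classical
  let y : Fin 3 → W := fun i => q ^ (i : ℕ) * x * (q ^ (i : ℕ))⁻¹
  have oy : ∀ i, orderOf (y i) = 2 := fun i => by rw [orderOf_conj_eq, C.ox]
  have cy : ∀ i, IsConj x (y i) := fun i => isConj_iff.mpr ⟨_, rfl⟩
  have ny : ∀ i, ¬ P (y i) := fun i => (C.conj_x_iff (oy i)).mp (cy i)
  have yw : ∀ i, Commute (y i) w := fun i =>
    ((C.qw.pow_left _).mul_left C.xw).mul_left (C.qw.pow_left _).inv_left
  have owy : ∀ i, orderOf (w * y i) = 2 := fun i => by
    refine invol_iff.mpr ⟨?_, fun h => ?_⟩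
    · rw [(yw i).mul_mul_mul_comm w (y i), C.sq_w, invol_mul_self (oy i), one_mul]
    · have := eq_inv_of_mul_eq_one_right h
      rw [invol_inv C.ow] at this
      exact ny i (this.symm ▸ C.pw)
  have pwy : ∀ i, P (w * y i) := fun i => by
    have h : w * y i = q ^ (i : ℕ) * (w * x) * (q ^ (i : ℕ))⁻¹ := by
      calc w * y i = (w * q ^ (i : ℕ)) * x * (q ^ (i : ℕ))⁻¹ := by simp only [y]; group
        _ = _ := by rw [← (C.qw.pow_left _).eq]; group
    rw [h]
    exact C.conj _ _ C.pwx
  have hyy : ∀ i j : Fin 3, ∃ k : ℕ, y i * y j = q ^ k := fun i j => by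
    refine ⟨2 * (i : ℕ) + 4 * (j : ℕ), ?_⟩
    have h3 : q ^ 3 = 1 := by rw [← C.oq, pow_orderOf_eq_one]
    have hinv : (q ^ (2 * (j : ℕ)))⁻¹ = q ^ (4 * (j : ℕ)) := by
      refine inv_eq_of_mul_eq_one_right ?_
      rw [← pow_add, show 2 * (j : ℕ) + 4 * (j : ℕ) = 3 * (2 * (j : ℕ)) by ring, pow_mul, h3,
        one_pow]
    simp only [y, C.qf_eq]
    rw [show q ^ (2 * (i : ℕ)) * x * (q ^ (2 * (j : ℕ)) * x) =
      q ^ (2 * (i : ℕ)) * (x * q ^ (2 * (j : ℕ)) * x) by group, C.invert_q, hinv, ← pow_add]
  have hmem : ∀ i j, w ∈ Subgroup.zpowers (w * y i * y j) := fun i j => by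
    obtain ⟨k, hk⟩ := hyy i j
    refine Subgroup.mem_zpowers_iff.mpr ⟨3, ?_⟩
    rw [mul_assoc, hk, (C.qw.pow_left k).symm.mul_zpow,
      show (q ^ k) ^ (3 : ℤ) = 1 by
        rw [show (3 : ℤ) = ((3 : ℕ) : ℤ) from rfl, zpow_natCast, ← pow_mul, mul_comm, pow_mul,
          ← C.oq, pow_orderOf_eq_one, one_pow],
      mul_one, show (3 : ℤ) = 2 + 1 by norm_num, zpow_add, zpow_two, C.sq_w, one_mul, zpow_one]
  let f : Fin 3 × Fin 3 →
      {u : W × W // IsConj w u.1 ∧ IsConj x u.2 ∧ w ∈ Subgroup.zpowers (u.1 * u.2)} :=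
    fun ij => ⟨(w * y ij.1, y ij.2), (C.conj_w_iff (owy _)).mpr (pwy _), cy _, hmem _ _⟩
  have hyinj : Function.Injective y := by
    intro i j h
    simp only [y, C.qf_eq] at h
    have h2 := pow_inj_mod.mp (mul_right_cancel h)
    rw [C.oq] at h2
    exact Fin.ext (by omega)
  have hinj : Function.Injective f := by
    rintro ⟨i, j⟩ ⟨i', j'⟩ h
    have h' := congrArg Subtype.val h
    simp only [f, Prod.mk.injEq, mul_right_inj] at h'
    rw [hyinj h'.1, hyinj h'.2]
  have hsurj : Function.Surjective f := by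
    rintro ⟨⟨u, v⟩, hu, hv, hm⟩
    dsimp only at hu hv hm
    have ou := C.orderOf_conj' hu C.ow
    have ov := C.orderOf_conj' hv C.ox
    obtain ⟨huw, hvw⟩ := commute_of_mem ou ov C.ow hm
    have pu := (C.conj_w_iff ou).mp hu
    have pv := (C.conj_x_iff ov).mp hv
    obtain ⟨j, hj | hj | hj⟩ := C.inv_w v ov hvw
    · exact absurd (hj ▸ C.pw) pv
    · obtain ⟨i, hi | hi | hi⟩ := C.inv_w u ou huw
      · exfalso
        rw [hi, hj] at hm
        have hw' : orderOf (w * y j) = 2 := owy j
        have h2 := (invol_unique_zpowers C.ow hm).2.trans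
          (invol_unique_zpowers hw' (Subgroup.mem_zpowers _)).2.symm
        exact invol_ne_one (oy j) (by simpa [y] using h2.symm)
      · rw [hi] at pu
        exact absurd pu (ny i)
      · exact ⟨(i, j), Subtype.ext (by simp only [f, y]; rw [hi, hj])⟩
    · exact absurd (hj ▸ pwy j) pv
  rw [← Nat.card_eq_of_bijective f ⟨hinj, hsurj⟩]
  simp

theorem count_x (C : Config P x w a q) :
    Nat.card {u : W × W // IsConj w u.1 ∧ IsConj x u.2 ∧ x ∈ Subgroup.zpowers (u.1 * u.2)} = 4 := by
  classical
  have hax : orderOf (a * x) = 2 := by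
    rw [← C.wa]
    have := orderOf_conj_eq w a
    rwa [invol_inv C.ow, C.oa] at this
  have nax : ¬ P (a * x) := fun h => by
    have := C.conj w _ h
    rw [invol_inv C.ow, ← C.wa, show w * (w * a * w) * w = (w * w) * a * (w * w) by group, C.sq_w,
      one_mul, mul_one] at this
    exact C.na this
  have owx : orderOf (w * x) = 2 := by
    refine invol_iff.mpr ⟨?_, fun h => ?_⟩
    · rw [C.xw.mul_mul_mul_comm w x, C.sq_w, C.sq_x, one_mul]
    · have := eq_inv_of_mul_eq_one_right h
      rw [invol_inv C.ow] at this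
      exact C.nx (this.symm ▸ C.pw)
  have pax : ∀ b, b = a ∨ b = a * x → IsConj x b := by
    rintro b (rfl | rfl)
    · exact (C.conj_x_iff C.oa).mpr C.na
    · exact (C.conj_x_iff hax).mpr nax
  -- the squares of the four products
  have key : w * a * (w * a) = x := by
    calc w * a * (w * a) = (w * a * w) * a := by group
      _ = a * (x * a) := by rw [C.wa, mul_assoc]
      _ = x := by rw [C.xa.eq, ← mul_assoc, C.sq_a, one_mul]
  have hsq : ∀ c e : W, (c = w ∨ c = w * x) → (e = a ∨ e = a * x) → c * e * (c * e) = x := by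
    have hxwa : Commute x (w * a) := C.xw.mul_right C.xa
    have h4 : ∀ t : W, (t = 1 ∨ t = x) → w * a * t * (w * a * t) = x := by
      rintro t (rfl | rfl)
      · simpa using key
      · rw [hxwa.mul_mul_mul_comm (w * a) t, key, C.sq_x, mul_one]
    rintro c e (rfl | rfl) (rfl | rfl)
    · simpa using h4 1 (Or.inl rfl)
    · simpa [mul_assoc] using h4 x (Or.inr rfl)
    · rw [show w * x * e = w * e * x by rw [mul_assoc, C.xa.eq, mul_assoc]]
      exact h4 x (Or.inr rfl)
    · rw [show w * x * (a * x) = w * (x * a) * x by group, C.xa.eq,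
        show w * (a * x) * x = w * a * (x * x) by group, C.sq_x]
      exact h4 1 (Or.inl rfl)
  let f : Bool × Bool →
      {u : W × W // IsConj w u.1 ∧ IsConj x u.2 ∧ x ∈ Subgroup.zpowers (u.1 * u.2)} :=
    fun bb => ⟨(if bb.1 then w * x else w, if bb.2 then a * x else a), by
      cases bb.1
      · exact IsConj.refl w
      · exact (C.conj_w_iff owx).mpr C.pwx, by
      cases bb.2
      · exact pax a (Or.inl rfl)
      · exact pax (a * x) (Or.inr rfl), by
      refine Subgroup.mem_zpowers_iff.mpr ⟨2, ?_⟩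
      rw [zpow_two]
      exact hsq _ _ (by cases bb.1 <;> simp) (by cases bb.2 <;> simp)⟩
  have hne : x ≠ 1 := invol_ne_one C.ox
  have hinj : Function.Injective f := by
    rintro ⟨b, c⟩ ⟨b', c'⟩ h
    have h' := congrArg Subtype.val h
    cases b <;> cases c <;> cases b' <;> cases c' <;> simp [f, hne] at h' <;> simp_all
  have hsurj : Function.Surjective f := by
    rintro ⟨⟨u, v⟩, hu, hv, hm⟩
    dsimp only at hu hv hm
    have ou := C.orderOf_conj' hu C.ow
    have ov := C.orderOf_conj' hv C.ox
    obtain ⟨hux, hvx⟩ := commute_of_mem ou ov C.ox hm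
    have pu := (C.conj_w_iff ou).mp hu
    have pv := (C.conj_x_iff ov).mp hv
    have hu' : u = w ∨ u = w * x := by
      rcases C.inv_x u ou hux with rfl | rfl | rfl | rfl | rfl
      exacts [absurd pu C.nx, absurd pu C.na, absurd pu nax, Or.inl rfl, Or.inr rfl]
    have hv' : v = a ∨ v = a * x := by
      rcases C.inv_x v ov hvx with h | h | h | h | h
      · exfalso
        subst h
        have h2 : orderOf (u * v) = 2 := by
          rcases hu' with rfl | rfl
          · exact owx
          · rw [mul_assoc, C.sq_x, mul_one, C.ow]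
        have := (invol_unique_zpowers C.ox hm).2.trans
          (invol_unique_zpowers h2 (Subgroup.mem_zpowers _)).2.symm
        exact invol_ne_one ou (by simpa using this.symm)
      · exact Or.inl h
      · exact Or.inr h
      · exact absurd (h ▸ C.pw) pv
      · exact absurd (h ▸ C.pwx) pv
    rcases hu' with hu' | hu' <;> rcases hv' with hv' | hv' <;> subst hu' hv'
    · exact ⟨(false, false), rfl⟩
    · exact ⟨(false, true), rfl⟩
    · exact ⟨(true, false), rfl⟩
    · exact ⟨(true, true), rfl⟩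
  rw [← Nat.card_eq_of_bijective f ⟨hinj, hsurj⟩]
  simp

theorem card_eq (C : Config P x w a q) : Nat.card W = 840 := by
  rw [Involutions.Thompson.order_formula w x C.ow C.ox C.not_conj
    (fun t ht => (C.classes t ht).symm), C.count_w, C.count_x, C.card_x, C.card_w]

end Config

end Cfsg.Agent.Lib.J4Seven.Count
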