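import Cfsg.Agent.Lib.J4Local.Facts

/-!
# The finite facts about elements of order seven used in the 7-local analysis of J4-type groups
-/

set_option autoImplicit false

namespace Cfsg.Agent.Lib.J4Seven

open Cfsg.Agent.Lib.J4Local

/-- Centralisers and normalisers of elements of order seven in `Aut M22`. -/
structure SevenFacts : Prop where
  cent : ∀ a : AutM22, orderOf a = 7 →
    Nat.card ↥(Subgroup.centralizer ({a} : Set AutM22)) = 14
  cent_inn : ∀ a : AutM22, orderOf a = 7 →
    Nat.card ↥(inn ⊓ Subgroup.centralizer ({a} : Set AutM22)) = 7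
  norm : ∀ a : AutM22, orderOf a = 7 →
    Nat.card ↥(Subgroup.normalizer ((Subgroup.zpowers a : Subgroup AutM22) : Set AutM22)) = 42

end Cfsg.Agent.Lib.J4Seven
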