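import Cfsg.Agent.Lib.J4Local.RowsG
import Cfsg.Agent.Lib.J4Local.Five
import Cfsg.Agent.Lib.J4Seven.Facts

/-!
# An element of order seven of `C(z)`: fixed points on `O₂`, centralizer and normalizer in `C(z)`
-/

set_option autoImplicit false
set_option linter.unusedSectionVars false

namespace Cfsg.Agent.Lib.J4Seven

open Cfsg.Agent.Lib.J4Local
open Cfsg.Agent.Lib.LargeExtraspecial.Basic

variable {G : Type*} [Group G]

/-- The fixed points of an element of prime order on an invariant set. -/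
theorem card_modEq [Finite G] {x : G} {n : ℕ} [Fact n.Prime] (hx : x ^ n = 1) (P : G → Prop)
    (hP : ∀ v, P v → P (x * v * x⁻¹)) :
    Nat.card {v // P v} ≡ Nat.card {v // P v ∧ Commute v x} [MOD n] := by
  classical
  have := Fintype.ofFinite G
  let σ : Equiv.Perm {v // P v} := Equiv.ofBijective (fun v => ⟨x * v * x⁻¹, hP v v.2⟩)
    (Finite.injective_iff_bijective.mp fun a b h => Subtype.ext
      (mul_left_cancel (mul_right_cancel (congrArg Subtype.val h))))
  have hpow : ∀ (i : ℕ) (v : {v // P v}), ((σ ^ i) v : G) = x ^ i * v * (x ^ i)⁻¹ := by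
    intro i
    induction i with
    | zero => intro v; simp
    | succ j ih =>
      intro v
      rw [pow_succ', Equiv.Perm.mul_apply]
      show x * ((σ ^ j) v : G) * x⁻¹ = _
      rw [ih v, pow_succ']
      group
  have hσ : σ ^ n ^ 1 = 1 := by
    refine Equiv.ext fun v => Subtype.ext ?_
    rw [pow_one, hpow, hx]
    simp
  have h := Equiv.Perm.card_compl_support_modEq (p := n) (n := 1) (σ := σ) hσ
  rw [Nat.card_eq_fintype_card (α := {v // P v})]
  refine h.symm.trans ?_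
  have hfix : (σ.supportᶜ : Finset {v // P v}).card = Nat.card {v // P v ∧ Commute v x} := by
    have hmem : ∀ v : {v // P v}, v ∈ (σ.supportᶜ : Finset {v // P v}) ↔ Commute (v : G) x := by
      intro v
      rw [Finset.mem_compl, Equiv.Perm.notMem_support]
      constructor
      · intro hh
        exact (mul_inv_eq_iff_eq_mul.mp (congrArg Subtype.val hh : x * (v : G) * x⁻¹ = v)).symm
      · intro hh
        exact Subtype.ext (mul_inv_eq_iff_eq_mul.mpr hh.symm.eq)
    rw [show (σ.supportᶜ : Finset {v // P v}) =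
        Finset.univ.filter (fun v : {v // P v} => Commute (v : G) x) from
      Finset.ext fun v => by rw [hmem, Finset.mem_filter]; simp,
      ← Fintype.card_subtype, ← Nat.card_eq_fintype_card]
    exact Nat.card_congr (Equiv.subtypeSubtypeEquivSubtypeInter P fun v => Commute v x)
  rw [hfix]

/-- Iterating a shift by a fixed commuting element. -/
theorem pow_shift {u a z : G} (h : u * a * u⁻¹ = a * z) (hc : Commute u z) (n : ℕ) :
    u ^ n * a * (u ^ n)⁻¹ = a * z ^ n := by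
  induction n with
  | zero => simp
  | succ m ih =>
    rw [pow_succ', show u * u ^ m * a * (u * u ^ m)⁻¹ = u * (u ^ m * a * (u ^ m)⁻¹) * u⁻¹ by group,
      ih, show u * (a * z ^ m) * u⁻¹ = (u * a * u⁻¹) * (u * z ^ m * u⁻¹) by group, h,
      (hc.pow_right m).eq, mul_inv_cancel_right, pow_succ', mul_assoc]

theorem orderOf_seven_pow {s : G} (hs : orderOf s = 7) : s ^ 7 = 1 := by
  rw [← hs, pow_orderOf_eq_one]

/-- Subgroups of order seven are conjugate when 49 does not divide the order. -/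
theorem conj_zpowers_seven {W : Type*} [Group W] [Finite W] (h49 : ¬ 49 ∣ Nat.card W) {a b : W}
    (ha : orderOf a = 7) (hb : orderOf b = 7) :
    ∃ h, h * a * h⁻¹ ∈ Subgroup.zpowers b := by
  have := Fact.mk (by norm_num : Nat.Prime 7)
  have key : ∀ {c : W}, orderOf c = 7 → ∃ P : Sylow 7 W, (P : Subgroup W) = Subgroup.zpowers c := by
    intro c hc
    have hcard : Nat.card ↥(Subgroup.zpowers c) = 7 ^ 1 := by rw [Nat.card_zpowers, hc, pow_one]
    obtain ⟨P, hP⟩ := (IsPGroup.of_card hcard).exists_le_sylow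
    obtain ⟨k, hk⟩ := P.2.exists_card_eq
    refine ⟨P, (Subgroup.eq_of_le_of_card_ge hP ?_).symm⟩
    rw [hk, hcard]
    refine Nat.pow_le_pow_right (by norm_num) ?_
    by_contra hgt
    exact h49 ((pow_dvd_pow 7 (show 2 ≤ k by omega)).trans (hk ▸ Subgroup.card_subgroup_dvd_card _))
  obtain ⟨P, hP⟩ := key ha
  obtain ⟨R, hR⟩ := key hb
  obtain ⟨h, hh⟩ := MulAction.exists_smul_eq W P R
  refine ⟨h, ?_⟩
  have h2 : h * a * h⁻¹ ∈ ((h • P : Sylow 7 W) : Subgroup W) :=
    Subgroup.smul_mem_pointwise_smul a (MulAut.conj h) _ (hP.ge (Subgroup.mem_zpowers a))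
  rwa [hh, hR] at h2

variable [Finite G] {z p s : G}

theorem not_dvd_cz (S : Setting z p) (F : AutFacts) : ¬ 49 ∣ Nat.card ↥(cz z) := by
  rw [S.card_cz F]
  norm_num

/-- Conjugacy of subgroups of order seven in `C(z)`. -/
theorem conj_seven (S : Setting z p) (F : AutFacts) {a b : G} (ha : a ∈ cz z) (hb : b ∈ cz z)
    (ha7 : orderOf a = 7) (hb7 : orderOf b = 7) :
    ∃ h ∈ cz z, h * a * h⁻¹ ∈ Subgroup.zpowers b := by
  obtain ⟨h, hh⟩ := conj_zpowers_seven (not_dvd_cz S F) (a := (⟨a, ha⟩ : ↥(cz z))) (b := ⟨b, hb⟩)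
    (by rw [Subgroup.orderOf_mk, ha7]) (by rw [Subgroup.orderOf_mk, hb7])
  obtain ⟨i, hi⟩ := hh
  exact ⟨h, h.2, i, congrArg Subtype.val hi⟩

theorem img_p_comm (S : Setting z p) {x : G} (hx : x ∈ cz z) (hc : Commute x p) :
    x ∈ inner z p :=
  S.kSub_le_inner (mem_kSub.mpr ⟨mem_cz.mp hx, hc⟩)

/-- An element of order seven commuting with `p`, for a suitable choice of `p`. -/
theorem exists_setting (S : Setting z p) (F : AutFacts) {s : G} (hs : s ∈ cz z)
    (h7 : orderOf s = 7) : ∃ p', Setting z p' ∧ Commute s p' := by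
  have := Fact.mk (by norm_num : Nat.Prime 7)
  obtain ⟨⟨a, ha⟩, ha7⟩ := exists_prime_orderOf_dvd_card' (G := ↥(kSub z p)) 7
    (by rw [S.card_kSub F]; norm_num)
  rw [Subgroup.orderOf_mk] at ha7
  obtain ⟨h, hh, hmem⟩ := conj_seven S F hs ha.1 h7 ha7
  obtain ⟨i, hi⟩ := hmem
  have hc : Commute (h * s * h⁻¹) p := hi ▸ (mem_cz.mp ha.2).zpow_left i
  have S' := S.conj h⁻¹
  rw [show h⁻¹ * z * h⁻¹⁻¹ = z from
    mul_inv_eq_iff_eq_mul.mpr (mem_cz.mp (inv_mem hh)).eq] at S'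
  refine ⟨_, S', ?_⟩
  have h2 := hc.map (MulAut.conj h⁻¹)
  simp only [MulAut.conj_apply] at h2
  rwa [show h⁻¹ * (h * s * h⁻¹) * h⁻¹⁻¹ = s by group] at h2

/-- The element of order seven together with `p`. -/
structure Seven (z p s : G) : Prop where
  S : Setting z p
  sz : Commute s z
  sp : Commute s p
  ord : orderOf s = 7

namespace Seven

variable (T : Seven z p s)
include T

theorem mem : s ∈ cz z := mem_cz.mpr T.sz

theorem ne_one : s ≠ 1 := fun h => by simpa [h] using T.ord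

theorem not_Q : s ∉ Q z := fun h => by
  have h1 := orderOf_dvd_of_pow_eq_one (T.S.pow_Q h)
  rw [T.ord] at h1
  norm_num at h1

theorem img_ord : orderOf (T.S.img s) = 7 := by
  have := Fact.mk (by norm_num : Nat.Prime 7)
  refine orderOf_eq_prime ?_ fun h => ?_
  · rw [← T.S.img_pow T.mem, orderOf_seven_pow T.ord, T.S.img_of_mem (one_mem _)]
    exact map_one _
  · obtain ⟨e, he, i, hi⟩ := (T.S.img_eq_one T.mem).mp h
    have hec : Commute e p := by
      have h2 := T.sp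
      rw [hi] at h2
      have h3 := h2.mul_left ((Commute.refl p).zpow_left i).inv_left
      rwa [mul_inv_cancel_right] at h3
    have h6 : s ^ 6 = 1 := by
      have h3 : (p ^ i) ^ 6 = 1 := by
        rw [← zpow_natCast, ← zpow_mul, mul_comm, zpow_mul, zpow_natCast,
          show p ^ 6 = (p ^ 3) ^ 2 by rw [← pow_mul], T.S.p_cube, one_pow, one_zpow]
      have he2 : e ^ 2 = 1 := by
        rcases T.S.fix e he hec with rfl | rfl
        · exact one_pow 2
        · rw [sq, T.S.z_sq]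
      rw [hi, (hec.zpow_right i).mul_pow, h3, show e ^ 6 = (e ^ 2) ^ 3 by rw [← pow_mul], he2,
        one_pow, mul_one]
    have h1 := orderOf_dvd_of_pow_eq_one h6
    rw [T.ord] at h1
    norm_num at h1

/-- The fixed points of `s` on `O₂` are `1` and `z`. -/
theorem fix {e : G} (he : e ∈ Q z) (hc : Commute e s) : e = 1 ∨ e = z := by
  classical
  have h7 := orderOf_seven_pow T.ord
  have := Fact.mk (by norm_num : Nat.Prime 7)
  have := Fact.mk Nat.prime_three
  set X : Subgroup G := cQ z s with hX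
  have hXQ : X ≤ Q z := inf_le_left
  have hzX : z ∈ X := T.S.z_mem_cQ T.mem
  have hinv : ∀ x ∈ X, p * x * p⁻¹ ∈ X := fun x hx => by
    obtain ⟨h1, h2⟩ := mem_cQ.mp hx
    refine mem_cQ.mpr ⟨T.S.conj_mem T.S.p_mem_cz h1, ?_⟩
    exact (T.sp.symm.mul_left h2).mul_left T.sp.symm.inv_left
  obtain ⟨k, hk, hcard⟩ := T.S.odd_exponent hXQ hzX hinv
  have hk13 : k ≤ 13 := by
    have h := Subgroup.card_le_of_le hXQ
    rw [hcard, T.S.card_E] at h
    exact (Nat.pow_le_pow_iff_right (by norm_num)).mp h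
  have hmod := Five.card_fixed_modEq (K := Q z) h7 (fun v hv => T.S.conj_mem T.mem hv)
  change _ ≡ Nat.card ↥X [MOD 7] at hmod
  rw [T.S.card_E, hcard, Nat.ModEq] at hmod
  have hk' : k = 1 ∨ k = 7 ∨ k = 13 := by
    interval_cases k <;> simp_all
  rcases hk' with rfl | rfl | rfl
  · have hsub : ({1, z} : Set G) ⊆ (X : Set G) := by
      rintro x (rfl | rfl)
      exacts [one_mem _, hzX]
    have heq := Set.eq_of_subset_of_ncard_le hsub (by
      rw [Set.ncard_pair (Ne.symm T.S.z_ne_one), ← Nat.card_coe_set_eq, SetLike.coe_sort_coe,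
        hcard]
      norm_num) (Set.toFinite _)
    have hm : e ∈ ({1, z} : Set G) := heq ▸ mem_cQ.mpr ⟨he, hc⟩
    exact hm
  · exfalso
    -- `X` is extraspecial
    have hes : ES X z := by
      refine ⟨hzX, T.S.z_ne_one, T.S.z_sq, fun a ha => T.S.es.comm a (hXQ ha), ?_,
        fun a ha b hb => T.S.es.conj a (hXQ ha) b (hXQ hb)⟩
      intro a ha hall
      by_contra hne
      push Not at hne
      obtain ⟨v, hv, hva⟩ := T.S.es.exists_conj_ne (hXQ ha) hne.1 hne.2
      set w := (v * s) ^ 7 with hw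
      have hsv : s * v * s⁻¹ ∈ Q z := T.S.conj_mem T.mem hv
      have key : ∀ n : ℕ, ∃ f ∈ Q z, (v * s) ^ n = f * s ^ n := by
        intro n
        induction n with
        | zero => exact ⟨1, one_mem _, by simp⟩
        | succ m ih =>
          obtain ⟨f, hf, hm⟩ := ih
          refine ⟨f * (s ^ m * v * (s ^ m)⁻¹), mul_mem hf
            (T.S.conj_mem (pow_mem T.mem m) hv), ?_⟩
          rw [pow_succ, hm, pow_succ]
          group
      obtain ⟨f, hf, hf7⟩ := key 7
      rw [h7, mul_one] at hf7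
      have hwQ : w ∈ Q z := by rw [hw, hf7]; exact hf
      have hsw : s * w * s⁻¹ = v⁻¹ * w * v⁻¹⁻¹ := by
        rw [hw, ← conj_pow, ← conj_pow]
        congr 1
        group
      have hfixw : s * w * s⁻¹ = w := by
        rcases T.S.es.conj v⁻¹ (inv_mem hv) w hwQ with h | h
        · rw [hsw, h]
        · exfalso
          have hs' : s * w * s⁻¹ = w * z := hsw.trans h
          have h1 := pow_shift hs' T.sz 7
          rw [h7, one_mul, inv_one, mul_one,
            show z ^ 7 = (z * z) ^ 3 * z by rw [← sq, ← pow_mul, ← pow_succ], T.S.z_sq, one_pow,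
            one_mul] at h1
          exact T.S.z_ne_one (by simpa using h1.symm)
      have hwX : w ∈ X := mem_cQ.mpr ⟨hwQ, (mul_inv_eq_iff_eq_mul.mp hfixw).symm⟩
      have hsa : Commute a s := (mem_cQ.mp ha).2
      have hact : (v * s) * a * (v * s)⁻¹ = a * z := by
        rw [show (v * s) * a * (v * s)⁻¹ = v * (s * a * s⁻¹) * v⁻¹ by group,
          mul_inv_eq_iff_eq_mul.mpr hsa.symm.eq, hva]
      have hzc : Commute (v * s) z := (T.S.es.comm v hv).mul_left T.sz
      have h1 := pow_shift hact hzc 7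
      rw [← hw, mul_inv_eq_iff_eq_mul.mpr (hall w hwX).eq,
        show z ^ 7 = (z * z) ^ 3 * z by rw [← sq, ← pow_mul, ← pow_succ], T.S.z_sq, one_pow,
        one_mul] at h1
      exact T.S.z_ne_one (by simpa using h1.symm)
    have hn := ESCount.sq_count T.S.es
    have hm := ESCount.sq_count hes
    have cnt : ∀ Y : Subgroup G, Nat.card {e : ↥Y // (e : G) * e = 1} =
        Nat.card {v // v ∈ Y ∧ v * v = 1} := fun Y =>
      Nat.card_congr (Equiv.subtypeSubtypeEquivSubtypeInter (fun v => v ∈ Y) fun v => v * v = 1)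
    have conjsq : ∀ x v : G, v * v = 1 → x * v * x⁻¹ * (x * v * x⁻¹) = 1 := fun x v hv => by
      rw [show x * v * x⁻¹ * (x * v * x⁻¹) = x * (v * v) * x⁻¹ by group, hv]; group
    rw [cnt, T.S.card_E] at hn
    rw [cnt, hcard] at hm
    have fixp : ∀ Y : Subgroup G, Y ≤ Q z → z ∈ Y → (∀ x ∈ Y, p * x * p⁻¹ ∈ Y) →
        Nat.card {v // v ∈ Y ∧ v * v = 1} ≡ 2 [MOD 3] := by
      intro Y hY hzY hYp
      refine (card_modEq T.S.p_cube (fun v => v ∈ Y ∧ v * v = 1)
        fun v hv => ⟨hYp v hv.1, conjsq p v hv.2⟩).trans ?_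
      have : Nat.card {v // (v ∈ Y ∧ v * v = 1) ∧ Commute v p} = ({1, z} : Set G).ncard := by
        rw [← Nat.card_coe_set_eq]
        refine Nat.card_congr (Equiv.subtypeEquivRight fun v => ⟨fun hv =>
          T.S.fix v (hY hv.1.1) hv.2, ?_⟩)
        rintro (rfl | rfl)
        · exact ⟨⟨one_mem _, one_mul 1⟩, Commute.one_left p⟩
        · exact ⟨⟨hzY, T.S.z_sq⟩, T.S.p_z.symm⟩
      rw [this, Set.ncard_pair (Ne.symm T.S.z_ne_one)]
    have h3n := fixp (Q z) le_rfl T.S.es.mem fun x hx => T.S.conj_mem T.S.p_mem_cz hx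
    have h3m := fixp X hXQ hzX hinv
    have h7n : Nat.card {v // v ∈ Q z ∧ v * v = 1} ≡ Nat.card {v // v ∈ X ∧ v * v = 1} [MOD 7] := by
      refine (card_modEq h7 (fun v => v ∈ Q z ∧ v * v = 1)
        fun v hv => ⟨T.S.conj_mem T.mem hv.1, conjsq s v hv.2⟩).trans (Nat.ModEq.refl _ |>.trans ?_)
      rw [Nat.card_congr (Equiv.subtypeEquivRight fun v : G =>
        (⟨fun hv => ⟨mem_cQ.mpr ⟨hv.1.1, hv.2⟩, hv.1.2⟩,
          fun hv => ⟨⟨hXQ hv.1, hv.2⟩, (mem_cQ.mp hv.1).2⟩⟩ :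
          (v ∈ Q z ∧ v * v = 1) ∧ Commute v s ↔ v ∈ X ∧ v * v = 1))]
    set n := Nat.card {v // v ∈ Q z ∧ v * v = 1}
    set m := Nat.card {v // v ∈ X ∧ v * v = 1}
    push_cast at hn hm
    have hn' : n = 4160 ∨ n = 4032 := by
      have : (2 * (n : ℤ) - 8192 - 128) * (2 * (n : ℤ) - 8192 + 128) = 0 := by
        ring_nf at hn ⊢; omega
      rcases mul_eq_zero.mp this with h | h <;> omega
    have hm' : m = 72 ∨ m = 56 := by
      have : (2 * (m : ℤ) - 128 - 16) * (2 * (m : ℤ) - 128 + 16) = 0 := by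
        ring_nf at hm ⊢; omega
      rcases mul_eq_zero.mp this with h | h <;> omega
    unfold Nat.ModEq at h3n h3m h7n
    omega
  · exfalso
    have heq : X = Q z := Subgroup.eq_of_le_of_card_ge hXQ (by rw [hcard, T.S.card_E])
    refine T.not_Q (T.S.self_centralizing s T.sz fun f hf => ?_)
    exact (mem_cQ.mp (heq.ge hf)).2

theorem ker_cent {x : G} (hx : x ∈ cz z) (h1 : T.S.img x = 1) (hc : Commute x s) :
    ∃ i : ℤ, x = p ^ i ∨ x = z * p ^ i := by
  obtain ⟨e, he, i, rfl⟩ := (T.S.img_eq_one hx).mp h1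
  have hp : Commute (p ^ i) s := T.sp.symm.zpow_left i
  have hes : Commute e s := by
    have h2 := hc.mul_left hp.inv_left
    rwa [mul_inv_cancel_right] at h2
  rcases T.fix he hes with rfl | rfl
  · exact ⟨i, Or.inl (one_mul _)⟩
  · exact ⟨i, Or.inr rfl⟩

theorem kernel_mem {x : G} (hx : ∃ i : ℤ, x = p ^ i ∨ x = z * p ^ i) :
    x ∈ cz z ⊓ cz s ∧ T.S.img x = 1 := by
  obtain ⟨i, rfl | rfl⟩ := hx
  · exact ⟨⟨zpow_mem T.S.p_mem_cz i, mem_cz.mpr (T.sp.symm.zpow_left i)⟩,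
      (T.S.img_eq_one (zpow_mem T.S.p_mem_cz i)).mpr ⟨1, one_mem _, i, (one_mul _).symm⟩⟩
  · have hzc : z ∈ cz z := mem_cz.mpr (Commute.refl z)
    exact ⟨⟨mul_mem hzc (zpow_mem T.S.p_mem_cz i),
      mem_cz.mpr (T.sz.symm.mul_left (T.sp.symm.zpow_left i))⟩,
      (T.S.img_eq_one (mul_mem hzc (zpow_mem T.S.p_mem_cz i))).mpr ⟨z, T.S.es.mem, i, rfl⟩⟩

/-- Elements of the normaliser of the image lift to the normaliser. -/
theorem exists_lift_norm {a : AutM22}
    (ha : a * T.S.img s * a⁻¹ ∈ Subgroup.zpowers (T.S.img s)) :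
    ∃ h ∈ cz z, T.S.img h = a ∧ h * s * h⁻¹ ∈ Subgroup.zpowers s := by
  obtain ⟨h0, hh0, rfl⟩ := T.S.img_surj a
  set σ : ↥(cz z) := ⟨s, T.mem⟩
  set M : Subgroup ↥(cz z) := (Subgroup.zpowers (T.S.phi σ)).comap T.S.phi with hM
  have hσ : T.S.img s = T.S.phi σ := T.S.img_of_mem T.mem
  have hcardM : Nat.card ↥M = 7 * (3 * 2 ^ 13) := by
    have h1 := Subgroup.card_mul_index M
    have h2 := Subgroup.card_mul_index (Subgroup.zpowers (T.S.phi σ))
    rw [hM, Subgroup.index_comap_of_surjective _ T.S.phi_surjective] at h1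
    rw [← hσ, Nat.card_zpowers, T.img_ord] at h2
    have h3 := Subgroup.card_mul_index T.S.phi.ker
    rw [Subgroup.index_ker, MonoidHom.range_eq_top.mpr T.S.phi_surjective,
      Nat.card_congr Subgroup.topEquiv.toEquiv, T.S.card_ker] at h3
    have hi : (Subgroup.zpowers (T.S.phi σ)).index ≠ 0 := Subgroup.index_ne_zero_of_finite
    refine mul_right_cancel₀ hi ?_
    rw [h1, ← h3, ← h2, hσ]
    ring
  have hσM : σ ∈ M := Subgroup.mem_zpowers (T.S.phi σ)
  set h0' : ↥(cz z) := ⟨h0, hh0⟩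
  have hτM : h0' * σ * h0'⁻¹ ∈ M := by
    show T.S.phi (h0' * σ * h0'⁻¹) ∈ Subgroup.zpowers (T.S.phi σ)
    rw [map_mul, map_mul, map_inv, ← T.S.img_of_mem hh0, ← hσ]
    exact ha
  have hord : orderOf σ = 7 := by rw [Subgroup.orderOf_mk, T.ord]
  obtain ⟨k, i, hi⟩ := conj_zpowers_seven (W := ↥M) (a := ⟨_, hτM⟩) (b := ⟨σ, hσM⟩)
    (by rw [hcardM]; norm_num)
    (by rw [Subgroup.orderOf_mk]; exact (MulEquiv.orderOf_eq (MulAut.conj h0') σ).trans hord)
    (by rw [Subgroup.orderOf_mk, hord])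
  obtain ⟨j, hj⟩ := Subgroup.mem_zpowers_iff.mp (k.2 : T.S.phi k.1 ∈ _)
  have hi' : s ^ i = (k.1 : G) * (h0 * s * h0⁻¹) * (k.1 : G)⁻¹ :=
    congrArg (fun x : ↥M => (x.1 : G)) hi
  have hkc : (k.1 : G) ∈ cz z := k.1.2
  refine ⟨s ^ (-j) * (k.1 : G) * h0, mul_mem (mul_mem (zpow_mem T.mem _) hkc) hh0, ?_, ?_⟩
  · have hsj : T.S.img (s ^ (-j)) = T.S.phi σ ^ (-j) := by
      rw [T.S.img_of_mem (zpow_mem T.mem _), ← map_zpow]
      rfl
    rw [T.S.img_mul (mul_mem (zpow_mem T.mem _) hkc) hh0, T.S.img_mul (zpow_mem T.mem _) hkc,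
      hsj, T.S.img_of_mem hkc, show T.S.phi ⟨(k.1 : G), hkc⟩ = T.S.phi k.1 from rfl, ← hj,
      ← zpow_add, neg_add_cancel, zpow_zero, one_mul]
  · refine ⟨i, ?_⟩
    show s ^ i = _
    calc s ^ i = s ^ (-j) * s ^ i * (s ^ (-j))⁻¹ := by group
      _ = _ := by rw [hi']; group

/-- The map to `Aut M22` on `C(z) ∩ C(s)`. -/
theorem card_cent (F7 : SevenFacts) : Nat.card ↥(cz z ⊓ cz s) = 84 := by
  let m : ↥(cz z ⊓ cz s) →* AutM22 := T.S.phi.comp (Subgroup.inclusion inf_le_left)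
  have hm : ∀ x : ↥(cz z ⊓ cz s), m x = T.S.img x := fun x => (T.S.img_of_mem _).symm
  have hrange : m.range = Subgroup.centralizer ({T.S.img s} : Set AutM22) := by
    ext a
    rw [mem_centralizer_single]
    constructor
    · rintro ⟨x, rfl⟩
      show m x * _ = _ * m x
      rw [hm, ← T.S.img_mul x.2.1 T.mem, ← T.S.img_mul T.mem x.2.1, (mem_cz.mp x.2.2).eq]
    · intro ha
      obtain ⟨h, hh, rfl, i, hi⟩ := T.exists_lift_norm (a := a) ⟨1, by
        show T.S.img s ^ (1 : ℤ) = _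
        rw [zpow_one, ha.eq, mul_inv_cancel_right]⟩
      have hi' : s ^ i = h * s * h⁻¹ := hi
      have himg : T.S.img s ^ i = T.S.img s ^ (1 : ℤ) := by
        have h2 : T.S.img (h * s * h⁻¹) = T.S.img s := by
          rw [T.S.img_mul (mul_mem hh T.mem) (inv_mem hh), T.S.img_mul hh T.mem, T.S.img_inv hh,
            ha.eq, mul_inv_cancel_right]
        rw [zpow_one]
        refine Eq.trans ?_ h2
        rw [← hi', T.S.img_of_mem (zpow_mem T.mem i), T.S.img_of_mem T.mem, ← map_zpow]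
        rfl
      rw [zpow_eq_zpow_iff_modEq, T.img_ord, ← T.ord, ← zpow_eq_zpow_iff_modEq, zpow_one,
        hi'] at himg
      exact ⟨⟨h, hh, mem_cz.mpr (mul_inv_eq_iff_eq_mul.mp himg)⟩, hm _⟩
  have hker : m.ker = (Subgroup.zpowers (z * p)).subgroupOf (cz z ⊓ cz s) := by
    ext x
    rw [MonoidHom.mem_ker, hm, Subgroup.mem_subgroupOf]
    constructor
    · intro h1
      obtain ⟨i, hi | hi⟩ := T.ker_cent x.2.1 h1 (mem_cz.mp x.2.2) <;> rw [hi]
      · exact ⟨_, (T.S.zp_pow i).1⟩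
      · exact ⟨_, (T.S.zp_pow i).2⟩
    · rintro ⟨i, hi⟩
      rw [← hi, T.S.img_eq_one (hi.symm ▸ x.2.1)]
      exact ⟨z ^ i, zpow_mem T.S.es.mem i, i, T.S.p_z.symm.mul_zpow i⟩
  have hle : Subgroup.zpowers (z * p) ≤ cz z ⊓ cz s := Subgroup.zpowers_le.mpr
    ⟨mul_mem (mem_cz.mpr (Commute.refl z)) T.S.p_mem_cz,
      mem_cz.mpr (T.sz.symm.mul_left T.sp.symm)⟩
  have h := Subgroup.card_mul_index m.ker
  rw [Subgroup.index_ker, hrange, F7.cent _ T.img_ord, hker,
    Nat.card_congr (Subgroup.subgroupOfEquivOfLe hle).toEquiv, Nat.card_zpowers, T.S.ord_zp] at h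
  exact h.symm

/-- The normaliser in `C(z)`. -/
theorem card_norm (F7 : SevenFacts) :
    Nat.card ↥(cz z ⊓ Subgroup.normalizer ((Subgroup.zpowers s : Subgroup G) : Set G)) = 252 := by
  set N := cz z ⊓ Subgroup.normalizer ((Subgroup.zpowers s : Subgroup G) : Set G) with hN
  let m : ↥N →* AutM22 := T.S.phi.comp (Subgroup.inclusion inf_le_left)
  have hm : ∀ x : ↥N, m x = T.S.img x := fun x => (T.S.img_of_mem _).symm
  have hconj : ∀ {a b : G}, a ∈ cz z → b ∈ cz z → T.S.img (a * b * a⁻¹) =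
      T.S.img a * T.S.img b * (T.S.img a)⁻¹ := fun ha hb => by
    rw [T.S.img_mul (mul_mem ha hb) (inv_mem ha), T.S.img_mul ha hb, T.S.img_inv ha]
  have hzp : ∀ i : ℤ, T.S.img (s ^ i) = T.S.img s ^ i := fun i => by
    rw [T.S.img_of_mem (zpow_mem T.mem i), T.S.img_of_mem T.mem, ← map_zpow]
    rfl
  have hrange : m.range =
      Subgroup.normalizer ((Subgroup.zpowers (T.S.img s) : Subgroup AutM22) : Set AutM22) := by
    ext a
    constructor
    · rintro ⟨x, rfl⟩
      obtain ⟨j, hj⟩ :=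
        (Subgroup.mem_normalizer_iff.mp x.2.2 s).mp (Subgroup.mem_zpowers s)
      have hj' : s ^ j = (x : G) * s * (x : G)⁻¹ := hj
      refine mem_normalizer_of_le ?_
      rintro _ ⟨i, rfl⟩
      rw [← conj_zpow]
      refine zpow_mem (Subgroup.mem_zpowers_iff.mpr ⟨j, ?_⟩) i
      show T.S.img s ^ j = _
      rw [← hzp, hj', hm, hconj x.2.1 T.mem]
    · intro ha
      obtain ⟨h, hh, rfl, j, hj⟩ := T.exists_lift_norm (a := a)
        ((Subgroup.mem_normalizer_iff.mp ha _).mp (Subgroup.mem_zpowers _))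
      refine ⟨⟨h, hh, mem_normalizer_of_le ?_⟩, hm _⟩
      rintro _ ⟨i, rfl⟩
      rw [← conj_zpow]
      exact zpow_mem (Subgroup.mem_zpowers_iff.mpr ⟨j, hj⟩) i
  have hker : m.ker = (Subgroup.zpowers (z * p)).subgroupOf N := by
    ext x
    rw [MonoidHom.mem_ker, hm, Subgroup.mem_subgroupOf]
    constructor
    · intro h1
      obtain ⟨j, hj⟩ :=
        (Subgroup.mem_normalizer_iff.mp x.2.2 s).mp (Subgroup.mem_zpowers s)
      have hj' : s ^ j = (x : G) * s * (x : G)⁻¹ := hj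
      have h2 : T.S.img s ^ j = T.S.img s ^ (1 : ℤ) := by
        rw [← hzp, hj', hconj x.2.1 T.mem, h1, zpow_one, one_mul, inv_one, mul_one]
      rw [zpow_eq_zpow_iff_modEq, T.img_ord, ← T.ord, ← zpow_eq_zpow_iff_modEq, zpow_one,
        hj'] at h2
      obtain ⟨i, hi | hi⟩ := T.ker_cent x.2.1 h1 (mul_inv_eq_iff_eq_mul.mp h2) <;> rw [hi]
      · exact ⟨_, (T.S.zp_pow i).1⟩
      · exact ⟨_, (T.S.zp_pow i).2⟩
    · rintro ⟨i, hi⟩
      rw [← hi, T.S.img_eq_one (hi.symm ▸ x.2.1)]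
      exact ⟨z ^ i, zpow_mem T.S.es.mem i, i, T.S.p_z.symm.mul_zpow i⟩
  have hle : Subgroup.zpowers (z * p) ≤ N := by
    refine Subgroup.zpowers_le.mpr ⟨mul_mem (mem_cz.mpr (Commute.refl z)) T.S.p_mem_cz,
      mem_normalizer_of_le ?_⟩
    rintro _ ⟨i, rfl⟩
    rw [← conj_zpow, mul_inv_eq_iff_eq_mul.mpr (T.sz.symm.mul_left T.sp.symm).eq]
    exact Subgroup.zpow_mem_zpowers s i
  have h := Subgroup.card_mul_index m.ker
  rw [Subgroup.index_ker, hrange, F7.norm _ T.img_ord, hker,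
    Nat.card_congr (Subgroup.subgroupOfEquivOfLe hle).toEquiv, Nat.card_zpowers, T.S.ord_zp] at h
  exact h.symm

/-- An involution other than `z` centralising `s` inverts `p`. -/
theorem inverts (F : AutFacts) (F7 : SevenFacts) {y : G} (hyz : Commute y z)
    (hys : Commute y s) (h2 : y * y = 1) (hy1 : y ≠ 1) (hyne : y ≠ z) :
    y * p * y⁻¹ = p⁻¹ := by
  have hy : y ∈ cz z := mem_cz.mpr hyz
  have hk3 : ∀ {x : G}, (∃ i : ℤ, x = p ^ i ∨ x = z * p ^ i) → x ^ 3 = 1 →
      ∃ i : ℤ, x = p ^ i := by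
    rintro x ⟨i, rfl | rfl⟩ h3
    · exact ⟨i, rfl⟩
    · exfalso
      rw [(T.S.p_z.symm.zpow_right i).mul_pow, ← zpow_natCast (p ^ i), ← zpow_mul, mul_comm,
        zpow_mul, zpow_natCast, T.S.p_cube, one_zpow, mul_one, pow_succ, sq, T.S.z_sq,
        one_mul] at h3
      exact T.S.z_ne_one h3
  have hc : y * p * y⁻¹ ∈ cz z := mul_mem (mul_mem hy T.S.p_mem_cz) (inv_mem hy)
  have h1 : T.S.img (y * p * y⁻¹) = 1 := by
    rw [T.S.img_mul (mul_mem hy T.S.p_mem_cz) (inv_mem hy), T.S.img_mul hy T.S.p_mem_cz,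
      T.S.img_p, T.S.img_inv hy, mul_one, mul_inv_cancel]
  have hcs : Commute (y * p * y⁻¹) s := (hys.mul_left T.sp.symm).mul_left hys.inv_left
  obtain ⟨i, hi⟩ := hk3 (T.ker_cent hc h1 hcs) (by rw [conj_pow, T.S.p_cube, mul_one, mul_inv_cancel])
  rcases T.S.p_zpow_cases i with h | h | h <;> rw [h] at hi
  · rw [conj_eq_one_iff] at hi
    have := T.S.ord_p
    rw [hi, orderOf_one] at this
    norm_num at this
  · exfalso
    have hyp : Commute y p := mul_inv_eq_iff_eq_mul.mp hi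
    have hinn : T.S.img y ∈ inn := (T.S.img_mem_inn F hy).mpr (img_p_comm T.S hy hyp)
    have hcm : T.S.img y ∈ Subgroup.centralizer ({T.S.img s} : Set AutM22) :=
      mem_centralizer_single.mpr (by
        show T.S.img y * T.S.img s = T.S.img s * T.S.img y
        rw [← T.S.img_mul hy T.mem, ← T.S.img_mul T.mem hy, hys.eq])
    have hsq : T.S.img y * T.S.img y = 1 := by
      rw [← T.S.img_mul hy hy, h2, T.S.img_of_mem (one_mem _)]
      exact map_one _
    have hone : T.S.img y = 1 := J4Local.eq_one_of_sq_odd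
      (W := inn ⊓ Subgroup.centralizer ({T.S.img s} : Set AutM22))
      (by rw [F7.cent_inn _ T.img_ord]; decide) ⟨hinn, hcm⟩ hsq
    obtain ⟨j, hj⟩ := T.ker_cent hy hone hys
    have hpj : y = 1 ∨ y = z := by
      rcases hj with hj | hj
      · exact Or.inl (two_three (n := 2) (by rw [sq, h2]) ⟨1, rfl⟩ T.S.ord_p hj)
      · refine Or.inr ?_
        have hzy : z * y = p ^ j := by rw [hj, ← mul_assoc, T.S.z_sq, one_mul]
        have h4 : (z * y) ^ 2 = 1 := by
          rw [hyz.symm.mul_pow, sq, T.S.z_sq, one_mul, sq, h2]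
        have h5 := two_three (n := 2) h4 ⟨1, rfl⟩ T.S.ord_p hzy
        rw [hzy] at h5
        rw [hj, h5, mul_one]
    exact hpj.elim hy1 hyne
  · rw [hi]
    exact (inv_eq_of_mul_eq_one_right (by rw [← mul_assoc, ← sq, ← pow_succ, T.S.p_cube])).symm

end Seven

end Cfsg.Agent.Lib.J4Seven
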