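import Cfsg.Agent.Lib.J4Seven.Sylow

/-!
# The complement of the central subgroup of order seven is the symmetric group of degree five
-/

set_option autoImplicit false
set_option linter.unusedSectionVars false

namespace Cfsg.Agent.Lib.J4Seven.Sylow2

open Cfsg.Agent.Lib.Involutions.Basic

variable {W : Type*} [Group W] [Finite W]

theorem exists_symmetric {P : W → Prop} {σ : W} (L : Local P σ) :
    Nat.card W = 840 ∧ ∃ I : Subgroup W,
      Subgroup.zpowers σ ⊓ I = ⊥ ∧ Subgroup.zpowers σ ⊔ I = ⊤ ∧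
      Nonempty (↥I ≃* Equiv.Perm (Fin 5)) := by
  classical
  obtain ⟨A0, x, w, a, q, c, S⟩ := L.exists_shape
  have C := S.config
  have h840 := C.card_eq
  refine ⟨h840, ?_⟩
  have hnormal : (Subgroup.zpowers σ).Normal := by
    refine ⟨fun n hn g => ?_⟩
    obtain ⟨k, rfl⟩ := hn
    rw [((L.central g).zpow_right k).eq, mul_inv_cancel_right]
    exact Subgroup.zpow_mem_zpowers σ k
  have hidx : (Subgroup.zpowers σ).index = 120 := by
    have h := Subgroup.card_mul_index (Subgroup.zpowers σ)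
    rw [Nat.card_zpowers, L.oσ, h840] at h
    omega
  obtain ⟨I, hI⟩ := Subgroup.exists_right_complement'_of_coprime (N := Subgroup.zpowers σ)
    (by rw [hidx, Nat.card_zpowers, L.oσ]; norm_num)
  have hbot : Subgroup.zpowers σ ⊓ I = ⊥ := hI.disjoint.eq_bot
  have hI120 : Nat.card ↥I = 120 := by
    rw [← hidx]
    exact hI.symm.index_eq_card.symm
  refine ⟨I, hbot, hI.sup_eq_top, ?_⟩
  have hdec : ∀ g : W, ∃ k ∈ I, ∃ i : ℤ, g = σ ^ i * k := by
    intro g
    obtain ⟨⟨⟨s', i, hi⟩, ⟨k, hk⟩⟩, hg⟩ := hI.surjective g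
    exact ⟨k, hk, i, by rw [← hg]; simp only [← hi]⟩
  have hmemI : ∀ {d : W} (n : ℕ), d ^ n = 1 → Nat.Coprime n 7 → d ∈ I := by
    intro d n hd hn
    obtain ⟨k, hk, i, rfl⟩ := hdec d
    rw [((L.central k).zpow_right i).symm.mul_pow] at hd
    have h1 : (σ ^ i) ^ n ∈ Subgroup.zpowers σ ⊓ I :=
      Subgroup.mem_inf.mpr ⟨pow_mem (Subgroup.zpow_mem_zpowers σ i) n, by
        rw [eq_inv_of_mul_eq_one_left hd]; exact inv_mem (pow_mem hk n)⟩
    rw [hbot, Subgroup.mem_bot] at h1
    have h2 : (σ ^ i) ^ 7 = 1 := by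
      rw [← zpow_natCast, ← zpow_mul, mul_comm, zpow_mul, zpow_natCast, ← L.oσ, pow_orderOf_eq_one,
        one_zpow]
    have h3 : σ ^ i = 1 := orderOf_eq_one_iff.mp (Nat.dvd_one.mp (hn ▸
      Nat.dvd_gcd (orderOf_dvd_of_pow_eq_one h1) (orderOf_dvd_of_pow_eq_one h2)))
    rw [h3, one_mul]
    exact hk
  have hinvI : ∀ {d : W}, d * d = 1 → d ∈ I := fun hd => hmemI 2 (by rw [sq, hd]) (by norm_num)
  have hc3 : c ^ 3 = 1 := by rw [← S.oc, pow_orderOf_eq_one]
  have hcI : c ∈ I := hmemI 3 hc3 (by norm_num)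
  have hwI : w ∈ I := hinvI C.sq_w
  have hxA : x ∈ A0 := (S.mem_A0 x).mpr (Or.inr (Or.inl rfl))
  have haA : a ∈ A0 := (S.mem_A0 a).mpr (Or.inr (Or.inr (Or.inl rfl)))
  have hA2 : ∀ b ∈ A0, b * b = 1 := by
    intro b hb
    rcases (S.mem_A0 b).mp hb with rfl | rfl | rfl | rfl
    · exact one_mul 1
    · exact C.sq_x
    · exact C.sq_a
    · rw [C.xa.mul_mul_mul_comm a x, C.sq_a, C.sq_x, one_mul]
  have hA0I : ∀ b ∈ A0, b ∈ I := fun b hb => hinvI (hA2 b hb)
  have hx1 := invol_ne_one C.ox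
  have hxb : ∀ b ∈ A0, Commute b x := fun b hb => exp2_comm hA2 hb hxA
  -- elements of `I` commuting with `x`
  have hcentI : ∀ d ∈ I, Commute d x → ∃ b ∈ A0, d = b ∨ d = w * b := by
    intro d hd hdx
    obtain ⟨j, b, hb, h⟩ := S.cent_x d hdx
    obtain ⟨e, he, hde, heq⟩ : ∃ e ∈ I, d = σ ^ j * e ∧ (e = b ∨ e = w * b) := by
      rcases h with h | h
      exacts [⟨b, hA0I b hb, h, Or.inl rfl⟩, ⟨w * b, mul_mem hwI (hA0I b hb), h, Or.inr rfl⟩]
    have h1 : σ ^ j ∈ Subgroup.zpowers σ ⊓ I := Subgroup.mem_inf.mpr ⟨Subgroup.npow_mem_zpowers σ j, by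
      rw [eq_mul_inv_of_mul_eq hde.symm]; exact mul_mem hd (inv_mem he)⟩
    rw [hbot, Subgroup.mem_bot] at h1
    rw [h1, one_mul] at hde
    exact ⟨b, hb, hde ▸ heq⟩
  -- powers of `c`
  have hcpow : ∀ (n : ℕ), ∀ b ∈ A0, c ^ n * b * (c ^ n)⁻¹ ∈ A0 := by
    intro n
    induction n with
    | zero => intro b hb; simpa using hb
    | succ m ih =>
      intro b hb
      rw [pow_succ', show c * c ^ m * b * (c * c ^ m)⁻¹ = c * (c ^ m * b * (c ^ m)⁻¹) * c⁻¹ by group]
      exact S.norm_c _ (ih b hb)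
  let o : Fin 3 → W := fun i => c ^ (i : ℕ) * x * (c ^ (i : ℕ))⁻¹
  have hcfix : ∀ n : ℕ, Commute (c ^ n) x → 3 ∣ n := by
    intro n hn
    by_contra hnd
    refine S.move ?_
    have h2 : c = (c ^ n) ^ n := by
      rw [← pow_mul]
      conv_lhs => rw [← pow_one c]
      refine pow_inj_mod.mpr ?_
      rw [S.oc, Nat.mul_mod]
      rcases (show n % 3 = 1 ∨ n % 3 = 2 by omega) with h | h <;> rw [h]
    rw [h2]
    exact hn.pow_left n
  have hoinj : Function.Injective o := by
    intro i j h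
    have key : ∀ {k l : Fin 3}, (k : ℕ) ≤ l → o k = o l → k = l := by
      intro k l hkl h
      obtain ⟨m, hm⟩ := Nat.le.dest hkl
      simp only [o, ← hm, pow_add] at h
      rw [show c ^ (k : ℕ) * c ^ m * x * (c ^ (k : ℕ) * c ^ m)⁻¹ =
        c ^ (k : ℕ) * (c ^ m * x * (c ^ m)⁻¹) * (c ^ (k : ℕ))⁻¹ by group] at h
      have h' := mul_left_cancel (mul_right_cancel h)
      have := hcfix m (mul_inv_eq_iff_eq_mul.mp h'.symm)
      exact Fin.ext (by omega)
    rcases le_total (i : ℕ) j with hle | hle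
    · exact key hle h
    · exact (key hle h.symm).symm
  have hax1 : a * x ≠ 1 := fun h => by
    have := eq_inv_of_mul_eq_one_left h
    rw [invol_inv C.ox] at this
    have h2 := C.wa
    rw [this, C.xw.symm.eq, mul_assoc, C.sq_w, mul_one, C.sq_x] at h2
    exact hx1 h2
  have horb : ∀ b ∈ A0, b ≠ 1 → ∃ i, o i = b := by
    intro b hb hb1
    have hsub : Set.range o ⊆ ({x, a, a * x} : Set W) := by
      rintro _ ⟨i, rfl⟩
      rcases (S.mem_A0 _).mp (hcpow i x hxA) with h | h | h | h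
      · exact absurd (conj_eq_one_iff.mp h) hx1
      · exact Or.inl h
      · exact Or.inr (Or.inl h)
      · exact Or.inr (Or.inr h)
    have hcard : (Set.range o).ncard = 3 := by
      rw [Set.ncard_range_of_injective hoinj]; simp
    have heq := Set.eq_of_subset_of_ncard_le hsub (by
      rw [hcard]
      refine (Set.ncard_insert_le _ _).trans ?_
      exact Nat.succ_le_succ (Set.ncard_insert_le _ _ |>.trans (by simp))) (Set.toFinite _)
    have hm : b ∈ ({x, a, a * x} : Set W) := by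
      rcases (S.mem_A0 b).mp hb with h | h | h | h
      exacts [absurd h hb1, Or.inl h, Or.inr (Or.inl h), Or.inr (Or.inr h)]
    rw [← heq] at hm
    exact hm
  -- the normaliser of `A0` in `I`
  let N : Subgroup W := I ⊓ Subgroup.normalizer (A0 : Set W)
  have hcN : c ∈ N := ⟨hcI, mem_norm S.norm_c⟩
  have hwN : w ∈ N := ⟨hwI, mem_norm S.norm_w⟩
  have hA0N : A0 ≤ N := fun b hb => ⟨hA0I b hb, Subgroup.le_normalizer hb⟩
  let f : Fin 3 × Bool × ↥A0 → ↥N := fun t =>
    ⟨c ^ (t.1 : ℕ) * ((if t.2.1 then w else 1) * t.2.2),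
      mul_mem (pow_mem hcN _) (mul_mem (by cases t.2.1 <;> simp [hwN]) (hA0N t.2.2.2))⟩
  have hwA0 : w ∉ A0 := fun h => S.not_p w h C.pw
  have htx : ∀ (e : Bool) (b : ↥A0), Commute ((if e then w else 1) * (b : W)) x := by
    intro e b
    cases e
    · simpa using hxb b b.2
    · simpa using C.xw.symm.mul_left (hxb b b.2)
  have hfinj : Function.Injective f := by
    rintro ⟨i, e, b⟩ ⟨i', e', b'⟩ h
    have h' := congrArg Subtype.val h
    simp only [f] at h'
    obtain rfl : i = i' := hoinj (by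
      have hi : ∀ (k : Fin 3) (e : Bool) (b : ↥A0),
          c ^ (k : ℕ) * ((if e then w else 1) * (b : W)) * x *
            (c ^ (k : ℕ) * ((if e then w else 1) * (b : W)))⁻¹ = o k := fun k e b => by
        rw [show c ^ (k : ℕ) * ((if e then w else 1) * (b : W)) * x *
            (c ^ (k : ℕ) * ((if e then w else 1) * (b : W)))⁻¹ =
          c ^ (k : ℕ) * (((if e then w else 1) * (b : W)) * x *
            ((if e then w else 1) * (b : W))⁻¹) * (c ^ (k : ℕ))⁻¹ by group,
          mul_inv_eq_iff_eq_mul.mpr (htx e b).eq]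
      rw [← hi i e b, h', hi i' e' b'])
    have h2 := mul_left_cancel h'
    cases e <;> cases e' <;> simp at h2
    · rw [h2]
    · exact absurd (by rw [eq_mul_inv_of_mul_eq h2.symm]; exact mul_mem b.2 (inv_mem b'.2)) hwA0
    · exact absurd (by rw [eq_mul_inv_of_mul_eq h2]; exact mul_mem b'.2 (inv_mem b.2)) hwA0
    · rw [h2]
  have hfsurj : Function.Surjective f := by
    rintro ⟨d, hdI, hdN⟩
    obtain ⟨i, hi⟩ := horb (d * x * d⁻¹) ((Subgroup.mem_normalizer_iff.mp hdN x).mp hxA)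
      (fun h => hx1 (conj_eq_one_iff.mp h))
    have hcomm : Commute ((c ^ (i : ℕ))⁻¹ * d) x := by
      refine mul_inv_eq_iff_eq_mul.mp ?_
      rw [show (c ^ (i : ℕ))⁻¹ * d * x * ((c ^ (i : ℕ))⁻¹ * d)⁻¹ =
        (c ^ (i : ℕ))⁻¹ * (d * x * d⁻¹) * c ^ (i : ℕ) by group, ← hi]
      simp only [o]
      group
    obtain ⟨b, hb, h⟩ := hcentI _ (mul_mem (inv_mem (pow_mem hcI _)) hdI) hcomm
    rcases h with h | h
    · exact ⟨(i, false, ⟨b, hb⟩), Subtype.ext (by simp [f, ← h])⟩
    · exact ⟨(i, true, ⟨b, hb⟩), Subtype.ext (by simp [f, ← h])⟩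
  have hA04 : Nat.card ↥A0 = 4 := by
    have hset : (A0 : Set W) = {1, x, a, a * x} := Set.ext fun b => S.mem_A0 b
    have hax : a ≠ x := fun h => by
      have h2 := C.wa
      rw [h, C.xw.symm.eq, mul_assoc, C.sq_w, mul_one, C.sq_x] at h2
      exact hx1 h2
    have ha1 : a ≠ 1 := invol_ne_one C.oa
    rw [← SetLike.coe_sort_coe, Nat.card_coe_set_eq, hset, Set.ncard_insert_of_notMem,
      Set.ncard_insert_of_notMem, Set.ncard_pair]
    · simpa using hx1
    · simp [hax.symm, ha1]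
    · simp [hx1.symm, ha1.symm, hax1.symm]
  have hN24 : Nat.card ↥N = 24 := by
    rw [← Nat.card_eq_of_bijective f ⟨hfinj, hfsurj⟩]
    simp [hA04]
  let N' : Subgroup ↥I := N.subgroupOf I
  have hN' : N'.index = 5 := by
    have h := Subgroup.card_mul_index N'
    rw [Nat.card_congr (Subgroup.subgroupOfEquivOfLe (inf_le_left : N ≤ I)).toEquiv, hN24,
      hI120] at h
    omega
  let K : Subgroup W := N'.normalCore.map I.subtype
  have hKN : K ≤ N := by
    rintro _ ⟨k, hk, rfl⟩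
    exact Subgroup.normalCore_le N' hk
  have hKnormal : ∀ k ∈ K, ∀ g : W, g * k * g⁻¹ ∈ K := by
    rintro _ ⟨k, hk, rfl⟩ g
    obtain ⟨e, he, i, rfl⟩ := hdec g
    refine ⟨⟨e, he⟩ * k * ⟨e, he⟩⁻¹, N'.normalCore_normal.conj_mem k hk _, ?_⟩
    simp only [Subgroup.coe_subtype, Subgroup.coe_mul, InvMemClass.coe_inv]
    rw [show σ ^ i * e * (k : W) * (σ ^ i * e)⁻¹ = σ ^ i * (e * (k : W) * e⁻¹) * (σ ^ i)⁻¹ by group,
      ((L.central (e * (k : W) * e⁻¹)).zpow_right i).symm.eq, mul_inv_cancel_right]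
  -- a non-`P` involution normalising `A0` lies in it
  have hmemA : ∀ t ∈ N, orderOf t = 2 → ¬ P t → t ∈ A0 := by
    intro t ht ho hnp
    have base : ∀ u, orderOf u = 2 → ¬ P u → Commute u x → u ∈ A0 := by
      intro u hu hnu hux
      rcases C.inv_x u hu hux with h | h | h | h | h
      · exact h ▸ hxA
      · exact h ▸ haA
      · exact (S.mem_A0 u).mpr (Or.inr (Or.inr (Or.inr h)))
      · exact absurd C.pw (h ▸ hnu)
      · exact absurd C.pwx (h ▸ hnu)
    obtain ⟨b, hb, hb1, htb⟩ : ∃ b ∈ A0, b ≠ 1 ∧ Commute t b := by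
      set u := t * x * t⁻¹ with hu
      have huA : u ∈ A0 := (Subgroup.mem_normalizer_iff.mp ht.2 x).mp hxA
      by_cases hux : u = x
      · exact ⟨x, hxA, hx1, mul_inv_eq_iff_eq_mul.mp hux⟩
      · refine ⟨x * u, mul_mem hxA huA, fun h => hux ?_, ?_⟩
        · rw [← inv_eq_of_mul_eq_one_right h, invol_inv C.ox]
        · refine mul_inv_eq_iff_eq_mul.mp ?_
          have h2 : t * u * t⁻¹ = x := by
            rw [hu, show t * (t * x * t⁻¹) * t⁻¹ = (t * t) * x * (t * t)⁻¹ by group,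
              invol_mul_self ho]
            group
          calc t * (x * u) * t⁻¹ = (t * x * t⁻¹) * (t * u * t⁻¹) := by group
            _ = u * x := by rw [h2]
            _ = x * u := exp2_comm hA2 huA hxA
    obtain ⟨i, hi⟩ := horb b hb hb1
    set g := c ^ (i : ℕ)
    have hmem : g⁻¹ * t * g ∈ A0 := by
      refine base _ ?_ (fun h => hnp ?_) ?_
      · have := orderOf_conj_eq g⁻¹ t
        rwa [inv_inv, ho] at this
      · have := L.conj g _ h
        rwa [show g * (g⁻¹ * t * g) * g⁻¹ = t by group] at this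
      · have := htb.map (MulAut.conj g⁻¹)
        simp only [MulAut.conj_apply, inv_inv] at this
        rwa [← hi, show g⁻¹ * (g * x * g⁻¹) * g = x by group] at this
    have := hcpow i _ hmem
    rwa [show g * (g⁻¹ * t * g) * g⁻¹ = t by group] at this
  have hcore : K = ⊥ := by
    by_contra hne
    by_cases heven : ∃ k ∈ K, orderOf k = 2
    · obtain ⟨k, hk, ho⟩ := heven
      have hxK : x ∈ K := by
        have key : ∀ u, IsConj u k → u ∈ K := by
          intro u hu
          obtain ⟨g, hg⟩ := isConj_iff.mp hu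
          have := hKnormal k hk g⁻¹
          rwa [← hg, show g⁻¹ * (g * u * g⁻¹) * g⁻¹⁻¹ = u by group] at this
        rcases C.classes k ho with h | h
        · exact key x h
        · have hwK := key w h
          have := mul_mem (inv_mem hwK) (hKnormal w hwK a)
          rwa [invol_inv C.ow, invol_inv C.oa, show w * (a * w * a) = w * a * w * a by group,
            C.wa, mul_assoc, C.xa.eq, ← mul_assoc, C.sq_a, one_mul] at this
      have hsub : {u : W | IsConj x u} ⊆ (A0 : Set W) := by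
        intro u hu
        obtain ⟨g, hg⟩ := isConj_iff.mp hu
        have huK : u ∈ K := hg ▸ hKnormal x hxK g
        have ho' := C.orderOf_conj' hu C.ox
        exact hmemA u (hKN huK) ho' ((C.conj_x_iff ho').mp hu)
      have h1 := Set.ncard_le_ncard hsub
      have h2 := Involutions.Thompson.card_class_mul x
      rw [C.card_x, h840] at h2
      rw [← Nat.card_coe_set_eq, ← Nat.card_coe_set_eq, SetLike.coe_sort_coe, hA04] at h1
      change Nat.card {u : W // IsConj x u} ≤ 4 at h1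
      omega
    · push Not at heven
      refine hne ((Subgroup.eq_bot_iff_forall _).mpr fun k hk => ?_)
      have hnone : ∀ e ∈ K, e * e = 1 → e = 1 := fun e he h2 => by
        by_contra h1
        exact heven e he (invol_iff.mpr ⟨h2, h1⟩)
      have hkb : ∀ b ∈ A0, Commute k b := by
        intro b hb
        have h1 : k * b * k⁻¹ * b⁻¹ ∈ A0 :=
          mul_mem ((Subgroup.mem_normalizer_iff.mp (hKN hk).2 b).mp hb) (inv_mem hb)
        have h2 : k * b * k⁻¹ * b⁻¹ ∈ K := by
          rw [show k * b * k⁻¹ * b⁻¹ = k * (b * k⁻¹ * b⁻¹) by group]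
          exact mul_mem hk (hKnormal _ (inv_mem hk) b)
        exact mul_inv_eq_iff_eq_mul.mp (mul_inv_eq_one.mp (hnone _ h2 (hA2 _ h1)))
      obtain ⟨b, hb, h | h⟩ := hcentI k (hKN hk).1 (hkb x hxA)
      · exact hnone k hk (h ▸ hA2 b hb)
      · exfalso
        have h1 := (hkb a haA).mul_left (exp2_comm hA2 (inv_mem hb) haA)
        rw [h, mul_inv_cancel_right] at h1
        have h2 := C.wa
        rw [h1.eq, mul_assoc, C.sq_w, mul_one] at h2
        exact hx1 (mul_eq_left.mp h2.symm)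
  have hker : (MulAction.toPermHom ↥I (↥I ⧸ N')).ker = ⊥ := by
    rw [← Subgroup.normalCore_eq_ker, ← Subgroup.map_eq_bot_iff_of_injective _
      (Subgroup.subtype_injective I)]
    exact hcore
  have hcard5 : Nat.card (↥I ⧸ N') = 5 := hN'
  have := Fintype.ofFinite (↥I ⧸ N')
  have hbij : Function.Bijective (MulAction.toPermHom ↥I (↥I ⧸ N')) :=
    ((MonoidHom.ker_eq_bot_iff _).mp hker).bijective_of_nat_card_le (by
      rw [hI120, Nat.card_perm, hcard5]; rfl)
  exact ⟨(MulEquiv.ofBijective _ hbij).trans ((Finite.equivFinOfCardEq hcard5).permCongrHom)⟩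

end Cfsg.Agent.Lib.J4Seven.Sylow2
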