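import Cfsg.Agent.Lib.J4Seven.Transport
import Cfsg.Agent.Lib.J4Seven.Sym
import Cfsg.Prelude.Def_TwoFusion

/-!
# The 7-local structure of a group of Janko-four type
-/

set_option autoImplicit false
set_option linter.unusedSectionVars false

namespace Cfsg.Agent.Lib.J4Seven

open Cfsg.Agent.Lib.J4Local
open Cfsg.Agent.Lib.LargeExtraspecial.Basic

variable {G : Type*} [Group G] [Finite G] {z p s : G}

/-- The statement for a generator. -/
theorem seven_structure [IsSimpleGroup G] (hG : ¬ IsMulCommutative G) (T : Seven z p s)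
    (F : AutFacts) (F7 : SevenFacts) (I : Inputs z)
    (h73 : ∃ a b : M24, orderOf a = 7 ∧ orderOf b = 3 ∧ a * b = b * a) :
    ¬ (49 ∣ Nat.card G) ∧
    (∃ J : Subgroup G, Cfsg.IsInternalDirectProduct (Subgroup.zpowers s) J (cz s) ∧
      Nonempty (↥J ≃* Equiv.Perm (Fin 5))) ∧
    Nat.card ↥(Subgroup.normalizer ((Subgroup.zpowers s : Subgroup G) : Set G)) = 2520 ∧
    Nat.card ↥(cz s) = 840 := by
  classical
  have := Fact.mk (by norm_num : Nat.Prime 7)
  have L := local_of_inputs hG T F F7 I h73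
  obtain ⟨h840, J, hJinf, hJsup, ⟨iso⟩⟩ := Sylow2.exists_symmetric L
  have hS : Nat.card ↥(Subgroup.zpowers s) = 7 := by rw [Nat.card_zpowers, T.ord]
  refine ⟨?_, ⟨J.map (cz s).subtype, ⟨?_, Subgroup.map_subtype_le J, ?_, ?_, ?_⟩,
    ⟨(J.equivMapOfInjective _ (Subgroup.subtype_injective _)).symm.trans iso⟩⟩, ?_, h840⟩
  · -- the Sylow 7-subgroup has order seven
    intro h49
    obtain ⟨K, hK, hSK⟩ := Sylow.exists_subgroup_card_pow_succ (p := 7) (n := 1) h49
      (H := Subgroup.zpowers s) (by rw [hS, pow_one])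
    haveI := IsPGroup.isMulCommutative_of_card_eq_prime_sq (p := 7) (G := ↥K) hK
    have hle : K ≤ cz s := fun k hk => mem_cz.mpr (congrArg Subtype.val
      (IsMulCommutative.is_comm.comm (⟨k, hk⟩ : ↥K) ⟨s, hSK (Subgroup.mem_zpowers s)⟩))
    have h := Subgroup.card_dvd_of_le hle
    rw [hK, h840] at h
    norm_num at h
  · exact Subgroup.zpowers_le.mpr (mem_cz.mpr (Commute.refl s))
  · rintro _ ⟨i, rfl⟩ _ ⟨b, -, rfl⟩
    exact ((mem_cz.mp b.2).zpow_right i).symm.eq
  · rw [Subgroup.eq_bot_iff_forall]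
    rintro _ ⟨⟨i, hi⟩, b, hb, rfl⟩
    have hb' : b ∈ Subgroup.zpowers (⟨s, mem_cz.mpr (Commute.refl s)⟩ : ↥(cz s)) ⊓ J :=
      Subgroup.mem_inf.mpr ⟨⟨i, Subtype.ext hi⟩, hb⟩
    rw [hJinf, Subgroup.mem_bot] at hb'
    rw [hb']
    rfl
  · have h := congrArg (Subgroup.map (cz s).subtype) hJsup
    rw [Subgroup.map_sup, MonoidHom.map_zpowers] at h
    rw [← MonoidHom.range_eq_map, Subgroup.range_subtype] at h
    exact h
  · -- the normaliser
    set S := Subgroup.zpowers s with hSdef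
    set N := Subgroup.normalizer (S : Set G) with hN
    have hcen : ∀ d, d ∈ Subgroup.centralizer (S : Set G) ↔ d ∈ cz s := fun d => by
      rw [hSdef, Subgroup.zpowers_eq_closure, Subgroup.centralizer_closure]
    have hCN : cz s ≤ N := fun d hd => Subgroup.centralizer_le_normalizer _ ((hcen d).mpr hd)
    let φ : ↥N →* MulAut ↥S := S.normalizerMonoidHom
    have hker : ∀ d : ↥N, d ∈ φ.ker ↔ (d : G) ∈ cz s := fun d => by
      show d ∈ S.normalizerMonoidHom.ker ↔ _
      rw [Subgroup.normalizerMonoidHom_ker, Subgroup.mem_subgroupOf]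
      exact hcen _
    set M := (cz z).subgroupOf N
    -- `N` is covered by `C(s)` and `N ∩ C(z)`
    have hcover : φ.range = (φ.comp M.subtype).range := by
      refine le_antisymm ?_ (by rintro _ ⟨d, rfl⟩; exact ⟨_, rfl⟩)
      rintro _ ⟨n, rfl⟩
      obtain ⟨A0, x, w, a, q, c, Sh⟩ := L.exists_shape
      have hns : Commute ((n : G) * z * (n : G)⁻¹) s := by
        obtain ⟨i, hi⟩ := (Subgroup.mem_normalizer_iff.mp (inv_mem n.2) s).mp
          (Subgroup.mem_zpowers s)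
        have hi' : s ^ i = (n : G)⁻¹ * s * (n : G)⁻¹⁻¹ := hi
        have := (T.sz.symm.zpow_right i).map (MulAut.conj (n : G))
        simp only [MulAut.conj_apply, hi', inv_inv] at this
        rwa [show (n : G) * ((n : G)⁻¹ * s * n) * (n : G)⁻¹ = s by group] at this
      set u : ↥(cz s) := ⟨(n : G) * z * (n : G)⁻¹, mem_cz.mpr hns⟩
      set zc : ↥(cz s) := ⟨z, mem_cz.mpr T.sz.symm⟩
      have hu : IsConj z (u : G) := isConj_iff.mpr ⟨n, rfl⟩
      have hconj : IsConj u zc := ((Sh.config.conj_w_iff (L.pord u hu)).mpr hu).symm.trans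
        ((Sh.config.conj_w_iff (L.pord zc (IsConj.refl z))).mpr (IsConj.refl z))
      obtain ⟨d, hd⟩ := isConj_iff.mp hconj
      have hd' : (d : G) * ((n : G) * z * (n : G)⁻¹) * (d : G)⁻¹ = z := congrArg Subtype.val hd
      have hdn : ((⟨d, hCN d.2⟩ : ↥N) * n) ∈ M := by
        show (d : G) * n ∈ cz z
        refine mem_cz.mpr (mul_inv_eq_iff_eq_mul.mp ?_)
        rw [show (d : G) * n * z * ((d : G) * n)⁻¹ =
          (d : G) * ((n : G) * z * (n : G)⁻¹) * (d : G)⁻¹ by group, hd']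
      refine ⟨⟨_, hdn⟩, ?_⟩
      rw [MonoidHom.comp_apply, Subgroup.subtype_apply, map_mul,
        (MonoidHom.mem_ker).mp ((hker _).mpr d.2), one_mul]
    have hkerM : Nat.card ↥(φ.comp M.subtype).ker = 84 := by
      rw [← T.card_cent F7]
      exact Nat.card_congr
        ⟨fun d => ⟨d.1.1.1, d.1.2, (hker d.1.1).mp d.2⟩,
          fun v => ⟨⟨⟨v.1, hCN v.2.2⟩, v.2.1⟩, (hker _).mpr v.2.2⟩, fun _ => rfl, fun _ => rfl⟩
    have hM : Nat.card ↥M = 252 := by
      rw [← T.card_norm F7]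
      exact Nat.card_congr ⟨fun d => ⟨d.1.1, d.2, d.1.2⟩, fun v => ⟨⟨v.1, v.2.2⟩, v.2.1⟩,
        fun _ => rfl, fun _ => rfl⟩
    have h3 : Nat.card ↥φ.range = 3 := by
      have h := Subgroup.card_mul_index (φ.comp M.subtype).ker
      rw [Subgroup.index_ker, hkerM, hM, ← hcover] at h
      omega
    have hkerN : Nat.card ↥φ.ker = 840 := by
      rw [← h840]
      exact Nat.card_congr
        ⟨fun d => ⟨d.1.1, (hker d.1).mp d.2⟩, fun v => ⟨⟨v.1, hCN v.2⟩, (hker _).mpr v.2⟩,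
          fun _ => rfl, fun _ => rfl⟩
    have h := Subgroup.card_mul_index φ.ker
    rw [Subgroup.index_ker, hkerN, h3] at h
    exact h.symm

/-- The form of S5573. -/
theorem order_seven_local [IsSimpleGroup G] (hG : ¬ IsMulCommutative G)
    (hJ : Cfsg.IsOfJankoFourTypeAt z) (F : AutFacts) (F7 : SevenFacts) (I : Inputs z)
    (h73 : ∃ a b : M24, orderOf a = 7 ∧ orderOf b = 3 ∧ a * b = b * a)
    (S : Subgroup G) (hS : Nat.card ↥S = 7) (hSz : S ≤ Subgroup.centralizer ({z} : Set G)) :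
    ¬ (49 ∣ Nat.card G) ∧
    (∃ J : Subgroup G, Cfsg.IsInternalDirectProduct S J (Subgroup.centralizer (S : Set G)) ∧
      Nonempty (↥J ≃* Equiv.Perm (Fin 5))) ∧
    Nat.card ↥(Subgroup.normalizer (S : Set G)) = 3 * Nat.card ↥(Subgroup.centralizer (S : Set G)) ∧
    Nat.card ↥(Subgroup.normalizer (S : Set G)) = 2 ^ 3 * 3 ^ 2 * 5 * 7 := by
  have := Fact.mk (by norm_num : Nat.Prime 7)
  obtain ⟨⟨s, hs⟩, h7⟩ := exists_prime_orderOf_dvd_card' (G := ↥S) 7 (dvd_of_eq hS.symm)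
  rw [Subgroup.orderOf_mk] at h7
  have hSeq : S = Subgroup.zpowers s :=
    (Subgroup.eq_of_le_of_card_ge (Subgroup.zpowers_le.mpr hs)
      (by rw [Nat.card_zpowers, h7, hS])).symm
  obtain ⟨p0, S0⟩ := Setting.of_at hJ
  obtain ⟨p, S', hp⟩ := exists_setting S0 F (hSz hs) h7
  obtain ⟨h49, hJ', hN, hC⟩ :=
    seven_structure hG ⟨S', mem_cz.mp (hSz hs), hp, h7⟩ F F7 I h73
  have hcz : Subgroup.centralizer (S : Set G) = cz s := by
    rw [hSeq, Subgroup.zpowers_eq_closure, Subgroup.centralizer_closure]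
  rw [hcz, hSeq]
  exact ⟨h49, hJ', by rw [hN, hC], by rw [hN]; norm_num⟩

end Cfsg.Agent.Lib.J4Seven
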