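import Cfsg.Agent.Lib.J4Seven.Count

/-!
# The Sylow 2-subgroup of the centralizer of an element of order seven

Abstract form: `W` is the centralizer, `P` marks the involutions conjugate to `z` in the whole group.
-/

set_option autoImplicit false
set_option linter.unusedSectionVars false

namespace Cfsg.Agent.Lib.J4Seven.Sylow2

open Cfsg.Agent.Lib.Involutions.Basic

variable {W : Type*} [Group W] [Finite W]

/-- The hypotheses. -/
structure Local (P : W → Prop) (σ : W) : Prop where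
  conj : ∀ g u, P u → P (g * u * g⁻¹)
  central : ∀ g, Commute g σ
  oσ : orderOf σ = 7
  pord : ∀ u, P u → orderOf u = 2
  exists_p : ∃ u, P u
  card_p : ∀ u, P u → Nat.card ↥(Subgroup.centralizer ({u} : Set W)) = 84
  inverts : ∀ u, P u → ∃ q, orderOf q = 3 ∧ Commute q u ∧
    ∀ d, orderOf d = 2 → Commute d u → d ≠ u → d * q * d⁻¹ = q⁻¹
  cent_n : ∀ t, orderOf t = 2 → ¬ P t → ∃ A : Subgroup W,
    A ≤ Subgroup.centralizer ({t} : Set W) ∧ t ∈ A ∧ (∀ b ∈ A, b * b = 1) ∧
    (∀ d ∈ Subgroup.centralizer ({t} : Set W), ∀ b ∈ A, d * b * d⁻¹ ∈ A) ∧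
    Nat.card ↥(Subgroup.centralizer ({t} : Set W)) ∣ 14 * Nat.card ↥A
  four : ∃ A0 : Subgroup W, (∀ b ∈ A0, b * b = 1) ∧ 4 ≤ Nat.card {b // b ∈ A0 ∧ ¬ P b} ∧
    ∃ c, orderOf c = 3 ∧ ∀ b ∈ A0, c * b * c⁻¹ ∈ A0

/-- The conclusion. -/
structure Shape (P : W → Prop) (σ : W) (A0 : Subgroup W) (x w a q c : W) : Prop where
  config : Count.Config P x w a q
  mem_A0 : ∀ b, b ∈ A0 ↔ b = 1 ∨ b = x ∨ b = a ∨ b = a * x
  not_p : ∀ b ∈ A0, ¬ P b
  oc : orderOf c = 3
  norm_c : ∀ b ∈ A0, c * b * c⁻¹ ∈ A0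
  move : ¬ Commute c x
  norm_w : ∀ b ∈ A0, w * b * w⁻¹ ∈ A0
  cent_x : ∀ d, Commute d x → ∃ j : ℕ, ∃ b ∈ A0, d = σ ^ j * b ∨ d = σ ^ j * (w * b)

theorem mem_cent {u d : W} : d ∈ Subgroup.centralizer ({u} : Set W) ↔ Commute d u :=
  Subgroup.mem_centralizer_singleton_iff

theorem exp2_comm {A : Subgroup W} (h : ∀ b ∈ A, b * b = 1) {a b : W} (ha : a ∈ A) (hb : b ∈ A) :
    Commute a b := by
  show a * b = b * a
  rw [← inv_eq_of_mul_eq_one_right (h _ (mul_mem ha hb)), mul_inv_rev,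
    inv_eq_of_mul_eq_one_right (h a ha), inv_eq_of_mul_eq_one_right (h b hb)]

theorem isPGroup_exp2 {A : Subgroup W} (h : ∀ b ∈ A, b * b = 1) : IsPGroup 2 ↥A :=
  fun b => ⟨1, by rw [pow_one, sq]; exact Subtype.ext (h b b.2)⟩

theorem two_pow_cases {k B : ℕ} (h : 2 ^ k ≤ B) (hB : B < 16) :
    k = 0 ∨ k = 1 ∨ k = 2 ∨ k = 3 := by
  have : k < 4 := (Nat.pow_lt_pow_iff_right (by norm_num : 1 < 2)).mp (lt_of_le_of_lt h hB)
  omega

theorem mem_norm {A : Subgroup W} {d : W} (h : ∀ b ∈ A, d * b * d⁻¹ ∈ A) :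
    d ∈ Subgroup.normalizer (A : Set W) := by
  have heq : A.map (MulAut.conj d).toMonoidHom = A :=
    Subgroup.eq_of_le_of_card_ge (by rintro _ ⟨x, hx, rfl⟩; exact h x hx)
      (le_of_eq (Subgroup.card_map_of_injective (MulAut.conj d).injective).symm)
  refine Subgroup.mem_normalizer_iff.mpr fun x => ⟨fun hx => h x hx, fun hx => ?_⟩
  have hx' : d * x * d⁻¹ ∈ A.map (MulAut.conj d).toMonoidHom := heq.symm ▸ hx
  obtain ⟨y, hy, hyx⟩ := hx'
  have : y = x := mul_left_cancel (mul_right_cancel (hyx : d * y * d⁻¹ = d * x * d⁻¹))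
  exact this ▸ hy

namespace Local

variable {P : W → Prop} {σ : W}

/-- The involutions commuting with an element of `P`. -/
theorem exists_index (L : Local P σ) {x w q u : W} (hw : P w) (oq : orderOf q = 3)
    (qw : Commute q w) (hx : orderOf x = 2) (hxw : Commute x w) (hxq : x * q * x⁻¹ = q⁻¹)
    (hu : orderOf u = 2) (huw : Commute u w) (huq : u * q * u⁻¹ = q⁻¹) :
    ∃ i : Fin 3, u = w ∨ u = q ^ (i : ℕ) * x * (q ^ (i : ℕ))⁻¹ ∨
      u = w * (q ^ (i : ℕ) * x * (q ^ (i : ℕ))⁻¹) := by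
  have ow := L.pord w hw
  have hxi := invol_inv hx
  have hw2 : w ^ 2 = 1 := by rw [← ow, pow_orderOf_eq_one]
  have hq3 : q ^ 3 = 1 := by rw [← oq, pow_orderOf_eq_one]
  have hqpow : ∀ k m : ℕ, k % 3 = m % 3 → q ^ k = q ^ m := fun k m h =>
    pow_inj_mod.mpr (by rw [oq]; exact h)
  have hxqn : ∀ n : ℕ, x * q ^ n * x = q ^ (2 * n) := fun n => by
    have h := invert_zpow (invol_mul_self hx) (r := q) (by rwa [hxi] at hxq) (n : ℤ)
    rw [zpow_neg, zpow_natCast] at h
    rw [h]
    refine inv_eq_of_mul_eq_one_right ?_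
    rw [← pow_add, show n + 2 * n = 3 * n by ring, pow_mul, hq3, one_pow]
  set k0 := w * q * σ with hk0
  have hwq : Commute w q := qw.symm
  have ok0 : orderOf k0 = 42 := by
    have h6 : orderOf (w * q) = 6 := by
      rw [hwq.orderOf_mul_eq_mul_orderOf_of_coprime (by rw [ow, oq]; norm_num), ow, oq]
    rw [hk0, (L.central (w * q)).orderOf_mul_eq_mul_orderOf_of_coprime
      (by rw [h6, L.oσ]; norm_num), h6, L.oσ]
  set K := Subgroup.centralizer ({w} : Set W) ⊓ Subgroup.centralizer ({q} : Set W) with hK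
  have hk0K : k0 ∈ K := ⟨mem_cent.mpr (((Commute.refl w).mul_left qw).mul_left (L.central w).symm),
    mem_cent.mpr ((hwq.mul_left (Commute.refl q)).mul_left (L.central q).symm)⟩
  have hK42 : K = Subgroup.zpowers k0 := by
    refine (Subgroup.eq_of_le_of_card_ge (Subgroup.zpowers_le.mpr hk0K) ?_).symm
    rw [Nat.card_zpowers, ok0]
    have hle : K ≤ Subgroup.centralizer ({w} : Set W) := inf_le_left
    have hd := Subgroup.card_dvd_of_le hle
    rw [L.card_p w hw] at hd
    obtain ⟨m, hm⟩ := hd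
    rcases (show m = 0 ∨ m = 1 ∨ 2 ≤ m by omega) with rfl | rfl | h2
    · omega
    · exfalso
      have heq : K = Subgroup.centralizer ({w} : Set W) :=
        Subgroup.eq_of_le_of_card_ge hle (by rw [L.card_p w hw]; omega)
      have hc := mem_cent.mp (heq.ge (mem_cent.mpr hxw)).2
      rw [mul_inv_eq_iff_eq_mul.mpr hc.eq] at hxq
      have h2 : q ^ 2 = 1 := by rw [sq]; nth_rw 1 [hxq]; exact inv_mul_cancel q
      have := orderOf_dvd_of_pow_eq_one h2
      rw [oq] at this
      norm_num at this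
    · have : 2 * Nat.card ↥K ≤ m * Nat.card ↥K := Nat.mul_le_mul_right _ h2
      rw [mul_comm m] at this
      omega
  have huxK : u * x ∈ K := by
    refine ⟨mem_cent.mpr (huw.mul_left hxw), mem_cent.mpr ?_⟩
    show u * x * q = q * (u * x)
    calc u * x * q = u * (x * q * x⁻¹) * x := by group
      _ = (u * q * u⁻¹)⁻¹ * (u * x) := by rw [hxq]; group
      _ = q * (u * x) := by rw [huq, inv_inv]
  rw [hK42] at huxK
  obtain ⟨n, hn⟩ := (mem_powers_iff_mem_zpowers).mpr huxK
  have hn' : k0 ^ n = w ^ n * q ^ n * σ ^ n := by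
    rw [hk0, (L.central (w * q)).mul_pow, hwq.mul_pow]
  have hueq : u = w ^ n * q ^ n * σ ^ n * x := by
    rw [← hn', show k0 ^ n = u * x from hn, mul_assoc, invol_mul_self hx, mul_one]
  have hsq : w ^ n * w ^ n * (σ ^ n * σ ^ n) = 1 := by
    have h := invol_mul_self hu
    rw [hueq] at h
    have e1 : x * w ^ n = w ^ n * x := (hxw.pow_right n).eq
    have e2 : x * σ ^ n = σ ^ n * x := ((L.central x).pow_right n).eq
    calc w ^ n * w ^ n * (σ ^ n * σ ^ n)
        = w ^ n * w ^ n * (q ^ n * q ^ (2 * n)) * (σ ^ n * σ ^ n) := by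
          rw [← pow_add q, show n + 2 * n = 3 * n by ring, pow_mul, hq3, one_pow, mul_one]
      _ = w ^ n * (w ^ n * q ^ n) * q ^ (2 * n) * (σ ^ n * σ ^ n) := by
          simp only [mul_assoc]
      _ = w ^ n * q ^ n * (w ^ n * q ^ (2 * n) * σ ^ n * σ ^ n) := by
          rw [show w ^ n * (w ^ n * q ^ n) = w ^ n * q ^ n * w ^ n by
            rw [mul_assoc, ← ((hwq.pow_left n).pow_right n).eq]]
          simp only [mul_assoc]
      _ = w ^ n * q ^ n * (σ ^ n * (w ^ n * q ^ (2 * n) * σ ^ n)) := by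
          rw [((L.central (w ^ n * q ^ (2 * n) * σ ^ n)).pow_right n).eq]
      _ = w ^ n * q ^ n * σ ^ n * (w ^ n * (x * q ^ n * x) * σ ^ n) := by
          rw [hxqn]; group
      _ = w ^ n * q ^ n * σ ^ n * ((w ^ n * x) * q ^ n * (x * σ ^ n)) := by group
      _ = w ^ n * q ^ n * σ ^ n * ((x * w ^ n) * q ^ n * (σ ^ n * x)) := by rw [e1, e2]
      _ = w ^ n * q ^ n * σ ^ n * x * (w ^ n * q ^ n * σ ^ n * x) := by group
      _ = 1 := h
  have hww : w ^ n * w ^ n = 1 := by rw [← pow_add, ← two_mul, pow_mul, hw2, one_pow]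
  rw [hww, one_mul, ← pow_add] at hsq
  have hσn : σ ^ n = 1 := by
    have h2 := orderOf_dvd_of_pow_eq_one hsq
    rw [L.oσ] at h2
    rw [← orderOf_dvd_iff_pow_eq_one, L.oσ]
    omega
  rw [hσn, mul_one] at hueq
  refine ⟨⟨2 * n % 3, Nat.mod_lt _ (by norm_num)⟩, ?_⟩
  have hy : q ^ (2 * n % 3) * x * (q ^ (2 * n % 3))⁻¹ = q ^ n * x := by
    have hinv : (q ^ (2 * n % 3))⁻¹ = q ^ (2 * (2 * n % 3)) := by
      refine inv_eq_of_mul_eq_one_right ?_
      rw [← pow_add, show 2 * n % 3 + 2 * (2 * n % 3) = 3 * (2 * n % 3) by ring, pow_mul, hq3,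
        one_pow]
    calc q ^ (2 * n % 3) * x * (q ^ (2 * n % 3))⁻¹
        = q ^ (2 * n % 3) * (x * (q ^ (2 * n % 3))⁻¹ * x) * x⁻¹ := by group
      _ = q ^ n * x := by
          rw [hinv, hxqn, hxi, ← pow_add, hqpow _ n (by omega)]
  right
  simp only [hy]
  rcases Nat.even_or_odd n with ⟨m, hm⟩ | ⟨m, hm⟩
  · left
    rw [hueq, show w ^ n = 1 by rw [hm, ← two_mul, pow_mul, hw2, one_pow], one_mul]
  · right
    rw [hueq, show w ^ n = w by rw [hm, pow_succ, pow_mul, hw2, one_pow, one_mul], mul_assoc]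

theorem le_four (L : Local P σ) {T : Subgroup W} (hT : IsPGroup 2 ↥T) {u : W} (hu : P u) :
    Nat.card ↥(T ⊓ Subgroup.centralizer ({u} : Set W)) ≤ 4 := by
  have := Fact.mk Nat.prime_two
  obtain ⟨k, hk⟩ := (hT.to_le inf_le_left :
    IsPGroup 2 ↥(T ⊓ Subgroup.centralizer ({u} : Set W))).exists_card_eq
  have h := Subgroup.card_dvd_of_le
    (inf_le_right : T ⊓ Subgroup.centralizer ({u} : Set W) ≤ _)
  rw [hk, L.card_p u hu, show (84 : ℕ) = 2 ^ 2 * 21 by norm_num,
    (Nat.Coprime.pow_left k (by norm_num : Nat.Coprime 2 21)).dvd_mul_right] at h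
  rw [hk]
  exact Nat.le_of_dvd (by norm_num) h

theorem exists_shape (L : Local P σ) : ∃ A0 x w a q c, Shape P σ A0 x w a q c := by
  classical
  have := Fact.mk Nat.prime_two
  obtain ⟨A0, hA0, h4, c, hc3, hcn⟩ := L.four
  obtain ⟨T, hT0⟩ := (isPGroup_exp2 hA0).exists_le_sylow
  -- an element of `P` in `T`
  obtain ⟨u0, hu0⟩ := L.exists_p
  obtain ⟨T', hT'⟩ := (IsPGroup.of_card (p := 2) (n := 1)
    (by rw [Nat.card_zpowers, L.pord u0 hu0, pow_one]) :
      IsPGroup 2 ↥(Subgroup.zpowers u0)).exists_le_sylow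
  obtain ⟨g, hg⟩ := MulAction.exists_smul_eq W T' T
  set w := g * u0 * g⁻¹
  have hwT : w ∈ (T : Subgroup W) := by
    rw [← hg]
    exact Subgroup.smul_mem_pointwise_smul u0 (MulAut.conj g) _ (hT' (Subgroup.mem_zpowers u0))
  have hPw : P w := L.conj g u0 hu0
  have hw2 := L.pord w hPw
  have hwn : w ∉ {b | b ∈ A0 ∧ ¬ P b} := fun h => h.2 hPw
  -- abelian `T` is impossible
  have habel : (∀ b ∈ (T : Subgroup W), Commute b w) → Nat.card ↥A0 = Nat.card ↥(T : Subgroup W) →
      False := by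
    intro hall hcard
    have hle : (T : Subgroup W) ≤ (T : Subgroup W) ⊓ Subgroup.centralizer ({w} : Set W) :=
      fun b hb => ⟨hb, mem_cent.mpr (hall b hb)⟩
    have h44 : Nat.card ↥(T : Subgroup W) ≤ 4 :=
      (Subgroup.card_le_of_le hle).trans (L.le_four T.2 hPw)
    have heq : A0 = T := Subgroup.eq_of_le_of_card_ge hT0 hcard.ge
    have hsub : {b | b ∈ A0 ∧ ¬ P b} ⊆ (A0 : Set W) := fun b hb => hb.1
    have := Set.eq_of_subset_of_ncard_le hsub (by
      rw [← Nat.card_coe_set_eq, ← Nat.card_coe_set_eq, SetLike.coe_sort_coe, hcard]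
      exact h44.trans h4) (Set.toFinite _)
    exact hwn (this.ge (heq.ge hwT))
  have hA0card : 4 ≤ Nat.card ↥A0 :=
    h4.trans (Nat.card_le_card_of_injective (fun b => (⟨b.1, b.2.1⟩ : ↥A0))
      fun b b' h => Subtype.ext (congrArg Subtype.val h :))
  -- a central involution
  haveI : Nontrivial ↥(T : Subgroup W) :=
    ⟨⟨⟨w, hwT⟩, 1, fun h => invol_ne_one hw2 (congrArg Subtype.val h)⟩⟩
  haveI := T.2.center_nontrivial
  obtain ⟨⟨⟨x, hxT⟩, hxc⟩, hx⟩ := exists_prime_orderOf_dvd_card'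
    (G := ↥(Subgroup.center ↥(T : Subgroup W))) 2 (by
      obtain ⟨k, hk⟩ := (T.2.to_subgroup (Subgroup.center ↥(T : Subgroup W))).exists_card_eq
      rw [hk]
      refine dvd_pow_self 2 ?_
      rintro rfl
      have := Finite.one_lt_card (α := ↥(Subgroup.center ↥(T : Subgroup W)))
      rw [hk] at this
      norm_num at this)
  rw [Subgroup.orderOf_mk, Subgroup.orderOf_mk] at hx
  have hcx : ∀ b ∈ (T : Subgroup W), Commute b x := fun b hb =>
    congrArg Subtype.val (Subgroup.mem_center_iff.mp hxc ⟨b, hb⟩)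
  have hTx : (T : Subgroup W) ≤ Subgroup.centralizer ({x} : Set W) := fun b hb =>
    mem_cent.mpr (hcx b hb)
  have hnx : ¬ P x := by
    intro hPx
    have h44 : Nat.card ↥(T : Subgroup W) ≤ 4 := by
      rw [← inf_eq_left.mpr hTx]
      exact L.le_four T.2 hPx
    have heq : A0 = T := Subgroup.eq_of_le_of_card_ge hT0 (h44.trans hA0card)
    exact habel (fun b hb => exp2_comm hA0 (heq.ge hb) (heq.ge hwT)) (by rw [heq])
  obtain ⟨A, hAc, hxA, hA2, hAn, hAd⟩ := L.cent_n x hx hnx
  have hAT : A ≤ (T : Subgroup W) := by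
    have hp : IsPGroup 2 ↥(A ⊔ (T : Subgroup W) : Subgroup W) :=
      (isPGroup_exp2 hA2).to_sup_of_normal_left' T.2 (fun d hd =>
        mem_norm fun b hb => hAn d (hTx hd) b hb)
    exact le_sup_left.trans (T.3 hp le_sup_right).le
  have hwA : ∀ b ∈ A, w * b * w ∈ A := fun b hb => by
    have := hAn w (hTx hwT) b hb
    rwa [invol_inv hw2] at this
  have hA4 : Nat.card ↥A ≤ 4 := by
    set K := A ⊓ Subgroup.centralizer ({w} : Set W) with hK
    have hKle : K ≤ (T : Subgroup W) ⊓ Subgroup.centralizer ({w} : Set W) := inf_le_inf_right _ hAT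
    have hb4 := L.le_four T.2 hPw
    by_cases hwin : w ∈ A
    · refine le_trans (le_of_eq ?_) ((Subgroup.card_le_of_le hKle).trans hb4)
      rw [hK, inf_eq_left.mpr fun b hb => mem_cent.mpr (exp2_comm hA2 hb hwin)]
    · have hK2 : Nat.card ↥K ≤ 2 := by
        have hlt : Nat.card ↥K < 4 := by
          refine lt_of_lt_of_le ?_ hb4
          refine lt_of_le_of_ne (Subgroup.card_le_of_le hKle) fun h => hwin ?_
          exact ((Subgroup.eq_of_le_of_card_ge hKle h.ge).ge
            ⟨hwT, mem_cent.mpr (Commute.refl w)⟩).1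
        obtain ⟨k, hk⟩ := ((isPGroup_exp2 hA2).to_le (inf_le_left : K ≤ A)).exists_card_eq
        rw [hk] at hlt ⊢
        rcases two_pow_cases hlt.le (by norm_num) with rfl | rfl | rfl | rfl <;> simp_all
      let f : ↥A →* ↥A :=
        { toFun := fun b => b * ⟨w * b * w, hwA b b.2⟩
          map_one' := Subtype.ext (by simp [invol_mul_self hw2])
          map_mul' := fun b b' => Subtype.ext (by
            simp only [Subgroup.coe_mul]
            have e1 : Commute (b' : W) (w * b * w) := exp2_comm hA2 b'.2 (hwA b b.2)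
            calc (b : W) * b' * (w * (b * b') * w)
                = (b : W) * b' * (w * b * (w * w) * b' * w) := by
                  rw [invol_mul_self hw2]; group
              _ = (b : W) * ((b' : W) * (w * b * w)) * (w * b' * w) := by group
              _ = _ := by rw [e1.eq]; group) }
      have hker : Nat.card ↥f.ker ≤ Nat.card ↥K :=
        Nat.card_le_card_of_injective (fun b => ⟨b.1.1, b.1.2, mem_cent.mpr (by
          have hb : (b.1 : W) * (w * b.1 * w) = 1 := congrArg Subtype.val b.2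
          have h2 := (eq_inv_of_mul_eq_one_right hb).trans
            (inv_eq_of_mul_eq_one_right (hA2 _ b.1.2))
          show (b.1 : W) * w = w * b.1
          calc (b.1 : W) * w = w * b.1 * w * w := by rw [h2]
            _ = w * b.1 := by rw [mul_assoc, invol_mul_self hw2, mul_one])⟩)
          fun b b' h => Subtype.ext (Subtype.ext (congrArg Subtype.val h :))
      have hrange : Nat.card ↥f.range ≤ Nat.card ↥K :=
        Nat.card_le_card_of_injective (fun b => ⟨b.1.1, b.1.2, mem_cent.mpr (by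
          obtain ⟨e, he⟩ := b.2
          have he' : (b.1 : W) = e * (w * e * w) := (congrArg Subtype.val he).symm
          show (b.1 : W) * w = w * b.1
          rw [he', (exp2_comm hA2 e.2 (hwA e e.2)).eq]
          calc w * (e : W) * w * e * w = w * ((e : W) * (w * e * w)) := by group
            _ = w * (w * e * w * e) := by rw [(exp2_comm hA2 e.2 (hwA e e.2)).eq])⟩)
          fun b b' h => Subtype.ext (Subtype.ext (congrArg Subtype.val h :))
      have h := Subgroup.card_mul_index f.ker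
      rw [Subgroup.index_ker] at h
      rw [← h]
      calc Nat.card ↥f.ker * Nat.card ↥f.range ≤ 2 * 2 :=
            Nat.mul_le_mul (hker.trans hK2) (hrange.trans hK2)
        _ = 4 := by norm_num
  obtain ⟨kA, hkA⟩ := (isPGroup_exp2 hA2).exists_card_eq
  have hA56 : 14 * Nat.card ↥A ∣ 56 := by
    rw [hkA] at hA4 ⊢
    rcases two_pow_cases hA4 (by norm_num) with rfl | rfl | rfl | rfl <;> omega
  have hcx56 := hAd.trans hA56
  obtain ⟨kT, hkT⟩ := T.2.exists_card_eq
  have hT8 : Nat.card ↥(T : Subgroup W) ≤ 8 := by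
    have h := (Subgroup.card_dvd_of_le hTx).trans hcx56
    rw [hkT, show (56 : ℕ) = 2 ^ 3 * 7 by norm_num,
      (Nat.Coprime.pow_left kT (by norm_num : Nat.Coprime 2 7)).dvd_mul_right] at h
    rw [hkT]
    exact Nat.le_of_dvd (by norm_num) h
  -- `A0` has order four and `T` order eight
  obtain ⟨k0, hk0⟩ := (isPGroup_exp2 hA0).exists_card_eq
  have hA0T := Subgroup.card_le_of_le hT0
  have hne : Nat.card ↥A0 ≠ Nat.card ↥(T : Subgroup W) := fun h => by
    have heq : A0 = T := Subgroup.eq_of_le_of_card_ge hT0 h.ge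
    exact habel (fun b hb => exp2_comm hA0 (heq.ge hb) (heq.ge hwT)) h
  have hA04 : Nat.card ↥A0 = 4 ∧ Nat.card ↥(T : Subgroup W) = 8 := by
    rw [hk0] at hA0card hA0T hne ⊢
    rw [hkT] at hA0T hne hT8 ⊢
    rcases two_pow_cases hT8 (by norm_num) with rfl | rfl | rfl | rfl <;>
      rcases two_pow_cases (hA0T.trans hT8) (by norm_num) with rfl | rfl | rfl | rfl <;>
        omega
  have hnp : ∀ b ∈ A0, ¬ P b := by
    have hsub : {b | b ∈ A0 ∧ ¬ P b} ⊆ (A0 : Set W) := fun b hb => hb.1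
    have := Set.eq_of_subset_of_ncard_le hsub (by
      rw [← Nat.card_coe_set_eq, ← Nat.card_coe_set_eq, SetLike.coe_sort_coe, hA04.1]
      exact h4) (Set.toFinite _)
    exact fun b hb => (this.ge hb).2
  have hwA0 : w ∉ A0 := fun h => hnp w h hPw
  -- `T = A0 ∪ w A0`
  let f2 : Bool × ↥A0 → ↥(T : Subgroup W) := fun bb =>
    ⟨(if bb.1 then w else 1) * bb.2, mul_mem (by cases bb.1 <;> simp [hwT]) (hT0 bb.2.2)⟩
  have hf2 : Function.Injective f2 := by
    rintro ⟨e, b⟩ ⟨e', b'⟩ h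
    have h' : (if e then w else 1) * (b : W) = (if e' then w else 1) * b' :=
      congrArg Subtype.val h
    cases e <;> cases e' <;> simp at h'
    · rw [h']
    · exact absurd (by rw [eq_mul_inv_of_mul_eq h'.symm]; exact mul_mem b.2 (inv_mem b'.2)) hwA0
    · exact absurd (by rw [eq_mul_inv_of_mul_eq h']; exact mul_mem b'.2 (inv_mem b.2)) hwA0
    · rw [h']
  have hTmem : ∀ d ∈ (T : Subgroup W), ∃ b ∈ A0, d = b ∨ d = w * b := by
    intro d hd
    obtain ⟨⟨e, b⟩, hb⟩ := (hf2.bijective_of_nat_card_le (by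
      rw [Nat.card_prod, hA04.1, hA04.2]; simp)).2 ⟨d, hd⟩
    have hb' : (if e then w else 1) * (b : W) = d := congrArg Subtype.val hb
    cases e <;> simp at hb'
    · exact ⟨b, b.2, Or.inl hb'.symm⟩
    · exact ⟨b, b.2, Or.inr hb'.symm⟩
  have hwnorm : ∀ b ∈ A0, w * b * w ∈ A0 := by
    intro b hb
    obtain ⟨e, he, h | h⟩ := hTmem _ (mul_mem (mul_mem hwT (hT0 hb)) hwT)
    · rw [h]; exact he
    · exfalso
      rw [mul_assoc] at h
      refine hwA0 ?_
      rw [eq_inv_mul_of_mul_eq (mul_left_cancel h)]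
      exact mul_mem (inv_mem hb) he
  have hxA0 : x ∈ A0 := by
    obtain ⟨b, hb, h | h⟩ := hTmem x hxT
    · exact h ▸ hb
    · exfalso
      have hw' : ∀ e ∈ A0, Commute e w := fun e he => by
        rw [show w = x * b⁻¹ by rw [h, mul_inv_cancel_right]]
        exact (hcx e (hT0 he)).mul_right (exp2_comm hA0 he (inv_mem hb))
      refine absurd (L.le_four T.2 hPw) (not_le.mpr ?_)
      rw [inf_eq_left.mpr, hA04.2]
      · norm_num
      intro d hd
      obtain ⟨e, he, hde⟩ := hTmem d hd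
      rcases hde with rfl | rfl
      · exact mem_cent.mpr (hw' _ he)
      · exact mem_cent.mpr ((Commute.refl w).mul_left (hw' _ he))
  -- a second element
  obtain ⟨a, ha, ha1, hax⟩ : ∃ a ∈ A0, a ≠ 1 ∧ a ≠ x := by
    by_contra hcon
    push Not at hcon
    have hsub : (A0 : Set W) ⊆ {1, x} := fun b hb => by
      by_cases h1 : b = 1
      · exact Or.inl h1
      · exact Or.inr (hcon b hb h1)
    have := (Set.ncard_le_ncard hsub).trans (le_of_eq (Set.ncard_pair (invol_ne_one hx).symm))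
    rw [← Nat.card_coe_set_eq, SetLike.coe_sort_coe, hA04.1] at this
    omega
  have hmemA0 : ∀ b, b ∈ A0 ↔ b = 1 ∨ b = x ∨ b = a ∨ b = a * x := by
    have hsub : ({1, x, a, a * x} : Set W) ⊆ (A0 : Set W) := by
      rintro b (rfl | rfl | rfl | rfl)
      exacts [one_mem _, hxA0, ha, mul_mem ha hxA0]
    have hx1 := invol_ne_one hx
    have hax1 : a * x ≠ 1 := fun h => hax ((eq_inv_of_mul_eq_one_left h).trans (invol_inv hx))
    have hcard : ({1, x, a, a * x} : Set W).ncard = 4 := by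
      rw [Set.ncard_insert_of_notMem, Set.ncard_insert_of_notMem, Set.ncard_pair]
      · simpa using hx1
      · simp [hax.symm, ha1, hx1]
      · simp [hx1.symm, ha1.symm, hax1.symm]
    have := Set.eq_of_subset_of_ncard_le hsub (by
      rw [← Nat.card_coe_set_eq, SetLike.coe_sort_coe, hA04.1, hcard]) (Set.toFinite _)
    intro b
    exact ⟨fun hb => this.ge hb, fun hb => hsub hb⟩
  have hncw : ¬ Commute a w := fun hc => by
    refine absurd (L.le_four T.2 hPw) (not_le.mpr ?_)
    rw [inf_eq_left.mpr, hA04.2]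
    · norm_num
    intro d hd
    obtain ⟨b, hb, hdb⟩ := hTmem d hd
    have hbw : Commute b w := by
      rcases (hmemA0 b).mp hb with rfl | rfl | rfl | rfl
      exacts [Commute.one_left w, (hcx w hwT).symm, hc, hc.mul_left (hcx w hwT).symm]
    rcases hdb with rfl | rfl
    · exact mem_cent.mpr hbw
    · exact mem_cent.mpr ((Commute.refl w).mul_left hbw)
  have hwi := invol_inv hw2
  have hwa : w * a * w = a * x := by
    rcases (hmemA0 _).mp (hwnorm a ha) with h | h | h | h
    · exfalso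
      refine ha1 ?_
      calc a = (w * w) * a * (w * w) := by rw [invol_mul_self hw2, one_mul, mul_one]
        _ = w * (w * a * w) * w := by group
        _ = 1 := by rw [h, mul_one, invol_mul_self hw2]
    · exfalso
      refine hax ?_
      calc a = (w * w) * a * (w * w) := by rw [invol_mul_self hw2, one_mul, mul_one]
        _ = w * (w * a * w) * w := by group
        _ = x := by rw [h, (hcx w hwT).eq, mul_assoc, invol_mul_self hw2, mul_one]
    · exfalso
      refine hncw ?_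
      show a * w = w * a
      calc a * w = w * a * w * w := by rw [h]
        _ = w * a := by rw [mul_assoc, invol_mul_self hw2, mul_one]
    · exact h
  have oa : orderOf a = 2 := invol_iff.mpr ⟨hA0 a ha, ha1⟩
  have hxw : Commute x w := (hcx w hwT).symm
  have hxa : Commute x a := exp2_comm hA0 hxA0 ha
  have haw : a * w * a = w * x := by
    calc a * w * a = w * (w * a * w) * a := by
          rw [show w * (w * a * w) = (w * w) * a * w by group, invol_mul_self hw2, one_mul]
      _ = w * x := by rw [hwa, mul_assoc w, mul_assoc a, hxa.eq, ← mul_assoc a, hA0 a ha, one_mul]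
  have hpwx : P (w * x) := by
    have := L.conj a w hPw
    rwa [inv_eq_of_mul_eq_one_right (hA0 a ha), haw] at this
  -- the centralizer of `x`
  have hσx : σ ∈ Subgroup.centralizer ({x} : Set W) := mem_cent.mpr (L.central x).symm
  have h56 : Nat.card ↥(Subgroup.centralizer ({x} : Set W)) = 56 := by
    refine Nat.dvd_antisymm hcx56 ?_
    have h7 : 7 ∣ Nat.card ↥(Subgroup.centralizer ({x} : Set W)) := by
      have := Subgroup.card_dvd_of_le (Subgroup.zpowers_le.mpr hσx)
      rwa [Nat.card_zpowers, L.oσ] at this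
    have h8 := Subgroup.card_dvd_of_le hTx
    rw [hA04.2] at h8
    exact (Nat.Coprime.mul_dvd_of_dvd_of_dvd (by norm_num) h8 h7 :)
  let f3 : Fin 7 × ↥(T : Subgroup W) → ↥(Subgroup.centralizer ({x} : Set W)) := fun jt =>
    ⟨σ ^ (jt.1 : ℕ) * jt.2, mul_mem (pow_mem hσx _) (hTx jt.2.2)⟩
  have hσT : ∀ (i : ℕ) (d : W), d ∈ (T : Subgroup W) → σ ^ i * d = 1 → σ ^ i = 1 := by
    intro i d hd h
    have h1 : d = (σ ^ i)⁻¹ := eq_inv_of_mul_eq_one_right h
    have h2 : σ ^ i ∈ (T : Subgroup W) := by simpa [h1] using inv_mem hd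
    have d1 := orderOf_dvd_natCard (⟨_, h2⟩ : ↥(T : Subgroup W))
    rw [Subgroup.orderOf_mk, hA04.2] at d1
    have d2 : orderOf (σ ^ i) ∣ 7 := by
      refine orderOf_dvd_of_pow_eq_one ?_
      rw [← pow_mul, mul_comm, pow_mul, ← L.oσ, pow_orderOf_eq_one, one_pow]
    exact orderOf_eq_one_iff.mp (Nat.dvd_one.mp (Nat.dvd_gcd d1 d2))
  have hf3 : Function.Injective f3 := by
    rintro ⟨i, d⟩ ⟨i', d'⟩ h
    have h' : σ ^ (i : ℕ) * (d : W) = σ ^ (i' : ℕ) * d' := congrArg Subtype.val h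
    have key : ∀ {j k : Fin 7} {e e' : ↥(T : Subgroup W)}, (j : ℕ) ≤ k →
        σ ^ (j : ℕ) * (e : W) = σ ^ (k : ℕ) * e' → j = k := by
      intro j k e e' hjk he
      obtain ⟨m, hm⟩ := Nat.le.dest hjk
      rw [← hm, pow_add, mul_assoc, mul_left_cancel_iff] at he
      have h2 := hσT m ((e' : W) * (e : W)⁻¹) (mul_mem e'.2 (inv_mem e.2))
        (by rw [← mul_assoc, ← he, mul_inv_cancel])
      have h3 := orderOf_dvd_of_pow_eq_one h2
      rw [L.oσ] at h3
      have := Nat.eq_zero_of_dvd_of_lt h3 (by omega)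
      exact Fin.ext (by omega)
    obtain rfl : i = i' := by
      rcases le_total (i : ℕ) i' with hle | hle
      · exact key hle h'
      · exact (key hle h'.symm).symm
    rw [Subtype.ext (mul_left_cancel h')]
  have hcent : ∀ d, Commute d x →
      ∃ j : ℕ, ∃ b ∈ A0, d = σ ^ j * b ∨ d = σ ^ j * (w * b) := by
    intro d hd
    obtain ⟨⟨j, e⟩, he⟩ := (hf3.bijective_of_nat_card_le (by
      rw [Nat.card_prod, hA04.2, h56]; simp)).2 ⟨d, mem_cent.mpr hd⟩
    have he' : σ ^ (j : ℕ) * (e : W) = d := congrArg Subtype.val he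
    obtain ⟨b, hb, h | h⟩ := hTmem _ e.2 <;> rw [h] at he'
    exacts [⟨j, b, hb, Or.inl he'.symm⟩, ⟨j, b, hb, Or.inr he'.symm⟩]
  have hinvT : ∀ b ∈ A0, ∀ d, (d = b ∨ d = w * b) → orderOf d = 2 →
      d = x ∨ d = a ∨ d = a * x ∨ d = w ∨ d = w * x := by
    intro b hb d hd ho
    rcases hd with rfl | rfl
    · rcases (hmemA0 _).mp hb with h | h | h | h
      exacts [absurd h (invol_ne_one ho), Or.inl h, Or.inr (Or.inl h),
        Or.inr (Or.inr (Or.inl h))]
    · have hsq := invol_mul_self ho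
      rcases (hmemA0 _).mp hb with rfl | rfl | rfl | rfl
      · exact Or.inr (Or.inr (Or.inr (Or.inl (mul_one w))))
      · exact Or.inr (Or.inr (Or.inr (Or.inr rfl)))
      · exfalso
        refine invol_ne_one hx ?_
        rw [show w * b * (w * b) = w * b * w * b by group, hwa, mul_assoc, hxa.eq, ← mul_assoc,
          hA0 _ ha, one_mul] at hsq
        exact hsq
      · exfalso
        refine invol_ne_one hx ?_
        rw [show w * (a * x) * (w * (a * x)) = w * a * (x * w) * (a * x) by group, hxw.eq,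
          show w * a * (w * x) * (a * x) = w * a * w * (x * a) * x by group, hwa, hxa.eq,
          show a * x * (a * x) * x = a * (x * a) * (x * x) by group, hxa.eq,
          invol_mul_self hx, mul_one, ← mul_assoc, hA0 _ ha, one_mul] at hsq
        exact hsq
  have hcmove : ¬ Commute c x := fun h => by
    have := orderOf_dvd_natCard (⟨c, mem_cent.mpr h⟩ : ↥(Subgroup.centralizer ({x} : Set W)))
    rw [Subgroup.orderOf_mk, hc3, h56] at this
    norm_num at this
  have hna : ¬ P a := hnp a ha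
  have hxa' : IsConj x a := by
    rcases (hmemA0 _).mp (hcn x hxA0) with h | h | h | h
    · exact absurd (conj_eq_one_iff.mp h) (invol_ne_one hx)
    · exact absurd (mul_inv_eq_iff_eq_mul.mp h) hcmove
    · exact isConj_iff.mpr ⟨c, h⟩
    · exact (isConj_iff.mpr ⟨c, h⟩ : IsConj x (a * x)).trans
        (isConj_iff.mpr ⟨w, by rw [hwi, ← hwa,
          show w * (w * a * w) * w = (w * w) * a * (w * w) by group, invol_mul_self hw2, one_mul,
          mul_one]⟩ : IsConj (a * x) a)
  obtain ⟨q, hq3, hqw, hqinv⟩ := L.inverts w hPw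
  have hxnew : x ≠ w := fun h => hnx (h ▸ hPw)
  refine ⟨A0, x, w, a, q, c, ⟨⟨L.conj, hx, hw2, hnx, hPw, ?_, h56, L.card_p w hPw, oa, hxw, hxa,
    hwa, hna, hpwx, ?_, hq3, hqw, hqinv x hx hxw hxnew, ?_⟩, hmemA0, hnp, hc3, hcn, hcmove,
    fun b hb => by rw [hwi]; exact hwnorm b hb, hcent⟩⟩
  · intro u hu
    obtain ⟨R, hR⟩ := (IsPGroup.of_card (p := 2) (n := 1)
      (by rw [Nat.card_zpowers, hu, pow_one]) : IsPGroup 2 ↥(Subgroup.zpowers u)).exists_le_sylow
    obtain ⟨g, hg⟩ := MulAction.exists_smul_eq W R T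
    have hmem : g * u * g⁻¹ ∈ (T : Subgroup W) := by
      rw [← hg]
      exact Subgroup.smul_mem_pointwise_smul u (MulAut.conj g) _ (hR (Subgroup.mem_zpowers u))
    have hback : IsConj (g * u * g⁻¹) u := (isConj_iff.mpr ⟨g, rfl⟩ : IsConj u _).symm
    obtain ⟨b, hb, hd⟩ := hTmem _ hmem
    rcases hinvT b hb _ hd (by rw [orderOf_conj_eq, hu]) with h | h | h | h | h <;>
      rw [h] at hback
    · exact Or.inl hback
    · exact Or.inl (hxa'.trans hback)
    · refine Or.inl ((hxa'.trans ?_).trans hback)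
      exact isConj_iff.mpr ⟨w, by rw [hwi, hwa]⟩
    · exact Or.inr hback
    · refine Or.inr (IsConj.trans ?_ hback)
      exact isConj_iff.mpr ⟨a, by rw [inv_eq_of_mul_eq_one_right (hA0 a ha), haw]⟩
  · intro u hu hux
    obtain ⟨j, b, hb, h⟩ := hcent u hux
    have hbT : ∀ d, (d = b ∨ d = w * b) → d ∈ (T : Subgroup W) := by
      rintro d (rfl | rfl)
      exacts [hT0 hb, mul_mem hwT (hT0 hb)]
    obtain ⟨d, hd, hud⟩ : ∃ d, (d = b ∨ d = w * b) ∧ u = σ ^ j * d := by
      rcases h with h | h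
      exacts [⟨b, Or.inl rfl, h⟩, ⟨w * b, Or.inr rfl, h⟩]
    have hsq := invol_mul_self hu
    rw [hud, (L.central d).pow_right j |>.mul_mul_mul_comm (σ ^ j) d, ← pow_add] at hsq
    have h1 := hσT (j + j) (d * d) (mul_mem (hbT d hd) (hbT d hd)) hsq
    have hj : σ ^ j = 1 := by
      have h2 := orderOf_dvd_of_pow_eq_one h1
      rw [L.oσ] at h2
      rw [← orderOf_dvd_iff_pow_eq_one, L.oσ]
      omega
    rw [hj, one_mul] at hud
    exact hinvT b hb u (hud ▸ hd) hu
  · -- involutions commuting with `w`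
    intro u hu huw
    by_cases huw1 : u = w
    · exact ⟨0, Or.inl huw1⟩
    exact exists_index L hPw hq3 hqw hx hxw (hqinv x hx hxw hxnew) hu huw
      (hqinv u hu huw huw1)

end Local

end Cfsg.Agent.Lib.J4Seven.Sylow2
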