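import Cfsg.Agent.Lib.J4Seven.Fix
import Cfsg.Agent.Lib.J4Seven.Sylow
import Cfsg.Prelude.Def_Transfer

/-!
# The local hypotheses in the centralizer of an element of order seven

From the 2^11-normaliser, the second involution centralizer, and fusion of elements of order three.
-/

set_option autoImplicit false
set_option linter.unusedSectionVars false

namespace Cfsg.Agent.Lib.J4Seven

open Cfsg.Agent.Lib.J4Local
open Cfsg.Agent.Lib.LargeExtraspecial.Basic

variable {G : Type*} [Group G]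

/-- The facts about `2^11` subgroups and the second involution class that are used here. -/
structure Inputs (z : G) : Prop where
  exists_big : ∃ V : Subgroup G, Cfsg.IsElementaryAbelian 2 V ∧ Nat.card ↥V = 2 ^ 11
  split : ∀ V : Subgroup G, Cfsg.IsElementaryAbelian 2 V → Nat.card ↥V = 2 ^ 11 →
    Subgroup.centralizer (V : Set G) ≤ V ∧ ∃ K : Subgroup G,
      K ≤ Subgroup.normalizer (V : Set G) ∧ Cfsg.Spor.IsoM24 ↥K
  orbit : ∀ V : Subgroup G, Cfsg.IsElementaryAbelian 2 V → Nat.card ↥V = 2 ^ 11 →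
    ∃ t : G, t ∈ V ∧ t ≠ 1 ∧ ¬ IsConj z t ∧
      Set.ncard {v : G | ∃ n ∈ Subgroup.normalizer (V : Set G), n * t * n⁻¹ = v} = 276
  second : ∀ t : G, orderOf t = 2 → ¬ IsConj z t → ∃ V K : Subgroup G,
    V ≤ Subgroup.centralizer ({t} : Set G) ∧ K ≤ Subgroup.centralizer ({t} : Set G) ∧
    Subgroup.centralizer ({t} : Set G) ≤ Subgroup.normalizer (V : Set G) ∧
    Cfsg.IsElementaryAbelian 2 V ∧ Nat.card ↥V = 2 ^ 11 ∧ K ⊓ V = ⊥ ∧
    K ⊔ V = Subgroup.centralizer ({t} : Set G) ∧ Nonempty (↥K ≃* AutM22)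

/-- Elementary abelian subgroups go to elementary abelian subgroups. -/
theorem elem_map {V : Subgroup G} (hV : Cfsg.IsElementaryAbelian 2 V) (f : G →* G) :
    Cfsg.IsElementaryAbelian 2 (V.map f) := by
  obtain ⟨hc, h2⟩ := hV
  refine ⟨⟨⟨?_⟩⟩, ?_⟩
  · rintro ⟨_, a, ha, rfl⟩ ⟨_, b, hb, rfl⟩
    refine Subtype.ext ?_
    show f a * f b = f b * f a
    have h := congrArg Subtype.val (hc.is_comm.comm (⟨a, ha⟩ : ↥V) ⟨b, hb⟩)
    simp only [Subgroup.coe_mul] at h
    rw [← map_mul, ← map_mul, h]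
  · rintro _ ⟨a, ha, rfl⟩
    rw [← map_pow, h2 a ha, map_one]

theorem elem_sq {V : Subgroup G} (hV : Cfsg.IsElementaryAbelian 2 V) {a : G} (ha : a ∈ V) :
    a * a = 1 := by rw [← sq]; exact hV.2 a ha

/-- Powers with an inverse exponent. -/
theorem zpowers_eq_of_seven [Finite G] {a s : G} (ha : orderOf a = 7) (hs : orderOf s = 7)
    (h : a ∈ Subgroup.zpowers s) : Subgroup.zpowers a = Subgroup.zpowers s :=
  Subgroup.eq_of_le_of_card_ge (Subgroup.zpowers_le.mpr h)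
    (by rw [Nat.card_zpowers, Nat.card_zpowers, ha, hs])

theorem commute_of_zpowers {a s d : G} (h : s ∈ Subgroup.zpowers a) (hd : Commute d a) :
    Commute d s := by
  obtain ⟨i, rfl⟩ := h
  exact hd.zpow_right i

variable [Finite G] {z p s : G}

/-- A conjugate of `z` commuting with `s` is conjugate by an element normalising `⟨s⟩`. -/
theorem exists_normalising (T : Seven z p s) (F : AutFacts) {u : G} (hu : IsConj z u)
    (hus : Commute u s) :
    ∃ n, n * z * n⁻¹ = u ∧ n⁻¹ * s * n ∈ Subgroup.zpowers s ∧ orderOf (n⁻¹ * s * n) = 7 := by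
  obtain ⟨g, hg⟩ := isConj_iff.mp hu
  have ho : ∀ n : G, orderOf (n⁻¹ * s * n) = 7 := fun n => by
    have := MulEquiv.orderOf_eq (MulAut.conj n⁻¹) s
    simp only [MulAut.conj_apply, inv_inv] at this
    rw [this, T.ord]
  have hsg : g⁻¹ * s * g ∈ cz z := by
    refine mem_cz.mpr ?_
    have := hus.symm.map (MulAut.conj g⁻¹)
    simp only [MulAut.conj_apply, inv_inv] at this
    rwa [← hg, show g⁻¹ * (g * z * g⁻¹) * g = z by group] at this
  obtain ⟨h, hh, hmem⟩ := conj_seven T.S F hsg T.mem (ho g) T.ord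
  refine ⟨g * h⁻¹, ?_, ?_, ho _⟩
  · calc g * h⁻¹ * z * (g * h⁻¹)⁻¹ = g * (h⁻¹ * z * h) * g⁻¹ := by group
      _ = u := by
        rw [show h⁻¹ * z * h = z by
          rw [(mem_cz.mp (inv_mem hh)).eq, inv_mul_cancel_right], hg]
  · rwa [show (g * h⁻¹)⁻¹ * s * (g * h⁻¹) = h * (g⁻¹ * s * g) * h⁻¹ by group]

/-- An elementary abelian 2-subgroup of order `2^11` normalised by `s` and by an element of order
three centralising `s`. -/
theorem exists_four [IsSimpleGroup G] (hG : ¬ IsMulCommutative G) (T : Seven z p s) (F : AutFacts)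
    (I : Inputs z) (h73 : ∃ a b : M24, orderOf a = 7 ∧ orderOf b = 3 ∧ a * b = b * a) :
    ∃ (V : Subgroup G) (c : G), Cfsg.IsElementaryAbelian 2 V ∧ Nat.card ↥V = 2 ^ 11 ∧
      s ∈ Subgroup.normalizer (V : Set G) ∧ c ∈ Subgroup.normalizer (V : Set G) ∧
      orderOf c = 3 ∧ Commute c s := by
  obtain ⟨V, hV, hVc⟩ := I.exists_big
  obtain ⟨-, K, hK, ⟨iso⟩⟩ := I.split V hV hVc
  obtain ⟨a, b, ha, hb, hab⟩ := h73
  set s1 : G := ((iso.symm a : ↥K) : G) with hs1def
  set c1 : G := ((iso.symm b : ↥K) : G) with hc1def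
  have hs1 : orderOf s1 = 7 := by rw [hs1def, Subgroup.orderOf_coe, MulEquiv.orderOf_eq, ha]
  have hc1 : orderOf c1 = 3 := by rw [hc1def, Subgroup.orderOf_coe, MulEquiv.orderOf_eq, hb]
  have hcomm : Commute c1 s1 := by
    show c1 * s1 = s1 * c1
    rw [hs1def, hc1def, ← Subgroup.coe_mul, ← Subgroup.coe_mul, ← map_mul, ← map_mul, hab]
  obtain ⟨g, hg⟩ := isConj_iff.mp (T.S.three_conj hG F hc1)
  have hsp : Commute (g⁻¹ * s1 * g) p := by
    have := hcomm.symm.map (MulAut.conj g⁻¹)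
    simp only [MulAut.conj_apply, inv_inv] at this
    rwa [← hg, show g⁻¹ * (g * p * g⁻¹) * g = p by group] at this
  have hsz := mem_cz.mpr (T.S.centralizer_p_le hG F hsp)
  obtain ⟨h, -, hmem⟩ := conj_seven T.S F hsz T.mem (by
    have := MulEquiv.orderOf_eq (MulAut.conj g⁻¹) s1
    simp only [MulAut.conj_apply, inv_inv] at this
    rw [this, hs1]) T.ord
  set m := h * g⁻¹ with hm
  have hs2 : m * s1 * m⁻¹ ∈ Subgroup.zpowers s := by
    rwa [show m * s1 * m⁻¹ = h * (g⁻¹ * s1 * g) * h⁻¹ by rw [hm]; group]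
  have ho2 : orderOf (m * s1 * m⁻¹) = 7 := (MulEquiv.orderOf_eq (MulAut.conj m) s1).trans hs1
  have hse : s ∈ Subgroup.zpowers (m * s1 * m⁻¹) :=
    (zpowers_eq_of_seven ho2 T.ord hs2).ge (Subgroup.mem_zpowers s)
  set V2 := V.map (MulAut.conj m).toMonoidHom with hV2
  have hnorm : ∀ {d : G}, d ∈ Subgroup.normalizer (V : Set G) →
      m * d * m⁻¹ ∈ Subgroup.normalizer (V2 : Set G) := fun {d} hd => by
    refine mem_normalizer_of_le ?_
    rintro _ ⟨v, hv, rfl⟩
    refine ⟨d * v * d⁻¹, (Subgroup.mem_normalizer_iff.mp hd v).mp hv, ?_⟩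
    simp only [MulEquiv.coe_toMonoidHom, MulAut.conj_apply]
    group
  refine ⟨V2, m * c1 * m⁻¹, elem_map hV _, ?_, ?_, hnorm (hK (iso.symm b).2),
    (MulEquiv.orderOf_eq (MulAut.conj m) c1).trans hc1,
    commute_of_zpowers hse (hcomm.map (MulAut.conj m))⟩
  · rw [hV2, Subgroup.card_map_of_injective (MulAut.conj m).injective, hVc]
  · exact (Subgroup.zpowers_le.mpr (hnorm (hK (iso.symm a).2))) hse

/-- `s` fixes at least three involutions outside the class of `z` in such a subgroup. -/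
theorem card_nonconj (T : Seven z p s) (I : Inputs z) {V : Subgroup G}
    (hV : Cfsg.IsElementaryAbelian 2 V) (hVc : Nat.card ↥V = 2 ^ 11)
    (hs : s ∈ Subgroup.normalizer (V : Set G)) :
    4 ≤ Nat.card {v // (v ∈ V ∧ Commute v s) ∧ ¬ IsConj z v} := by
  classical
  have := Fact.mk (by norm_num : Nat.Prime 7)
  obtain ⟨t, htV, ht1, htn, hcard⟩ := I.orbit V hV hVc
  set O := {v : G | ∃ n ∈ Subgroup.normalizer (V : Set G), n * t * n⁻¹ = v} with hO
  have hmod := card_modEq (orderOf_seven_pow T.ord) (fun v => v ∈ O) (by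
    rintro v ⟨n, hn, rfl⟩
    exact ⟨s * n, mul_mem hs hn, by group⟩)
  rw [show Nat.card {v // v ∈ O} = 276 from (Nat.card_coe_set_eq O).trans hcard, Nat.ModEq] at hmod
  have h3 : 3 ≤ Set.ncard {v | v ∈ O ∧ Commute v s} := by
    rw [← Nat.card_coe_set_eq]
    change 3 ≤ Nat.card {v // v ∈ O ∧ Commute v s}
    omega
  have hsub : insert 1 {v | v ∈ O ∧ Commute v s} ⊆
      {v | (v ∈ V ∧ Commute v s) ∧ ¬ IsConj z v} := by
    rintro v (rfl | ⟨⟨n, hn, rfl⟩, hvs⟩)
    · refine ⟨⟨one_mem _, Commute.one_left s⟩, fun h => ?_⟩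
      obtain ⟨g, hg⟩ := isConj_iff.mp h
      exact T.S.z_ne_one (conj_eq_one_iff.mp hg)
    · exact ⟨⟨(Subgroup.mem_normalizer_iff.mp hn t).mp htV, hvs⟩,
        fun h => htn (h.trans (isConj_iff.mpr ⟨n, rfl⟩ : IsConj t _).symm)⟩
  have h1 : (1 : G) ∉ {v | v ∈ O ∧ Commute v s} := by
    rintro ⟨⟨n, -, hn⟩, -⟩
    exact ht1 (conj_eq_one_iff.mp hn)
  have h4 := Set.ncard_le_ncard hsub
  rw [Set.ncard_insert_of_notMem h1, ← Nat.card_coe_set_eq
    {v | (v ∈ V ∧ Commute v s) ∧ ¬ IsConj z v}] at h4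
  change _ ≤ Nat.card {v // (v ∈ V ∧ Commute v s) ∧ ¬ IsConj z v} at h4
  omega

/-- The centralizer of a second-class involution inside the centralizer of `s`. -/
theorem exists_normal_two (T : Seven z p s) (F7 : SevenFacts) (I : Inputs z) {t : G}
    (ht : orderOf t = 2) (htn : ¬ IsConj z t) (hts : Commute t s) :
    ∃ V : Subgroup G, V ≤ cz t ∧ (∀ a ∈ V, a * a = 1) ∧ t ∈ V ∧
      (∀ d ∈ cz t, ∀ a ∈ V, d * a * d⁻¹ ∈ V) ∧
      Nat.card ↥(cz t ⊓ cz s) ∣ 14 * Nat.card ↥(V ⊓ cz s) := by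
  classical
  have := Fact.mk (by norm_num : Nat.Prime 7)
  obtain ⟨V, K, hVle, hKle, hnorm, hel, hcard, hinf, hsup, ⟨iso⟩⟩ := I.second t ht htn
  have hsplit := (I.split V hel hcard).1
  have htV : t ∈ V := hsplit (Subgroup.mem_centralizer_iff.mpr fun v hv =>
    (mem_cz.mp (hVle hv)).eq)
  refine ⟨V, hVle, fun a ha => elem_sq hel ha, htV,
    fun d hd a ha => (Subgroup.mem_normalizer_iff.mp (hnorm hd) a).mp ha, ?_⟩
  haveI hn : (V.subgroupOf (cz t)).Normal :=
    ⟨fun a ha g => (Subgroup.mem_normalizer_iff.mp (hnorm g.2) a).mp ha⟩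
  let q : ↥K →* ↥(cz t) ⧸ V.subgroupOf (cz t) :=
    (QuotientGroup.mk' _).comp (Subgroup.inclusion hKle)
  have hq : Function.Bijective q := by
    constructor
    · rw [injective_iff_map_eq_one]
      intro k hk
      have hk' : (k : G) ∈ V := (QuotientGroup.eq_one_iff (Subgroup.inclusion hKle k)).mp hk
      have : (k : G) ∈ K ⊓ V := ⟨k.2, hk'⟩
      rw [hinf, Subgroup.mem_bot] at this
      exact Subtype.ext this
    · intro y
      induction y using QuotientGroup.induction_on with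
      | H d =>
        have hd : (d : G) ∈ ((K ⊔ V : Subgroup G) : Set G) :=
          hsup.symm ▸ (d.2 : (d : G) ∈ Subgroup.centralizer ({t} : Set G))
        rw [Subgroup.coe_mul_of_left_le_normalizer_right K V (hKle.trans hnorm)] at hd
        obtain ⟨k, hk, v, hv, hkv⟩ := hd
        refine ⟨⟨k, hk⟩, QuotientGroup.eq.mpr ?_⟩
        show ((Subgroup.inclusion hKle ⟨k, hk⟩)⁻¹ * d : ↥(cz t)) ∈ V.subgroupOf (cz t)
        rw [Subgroup.mem_subgroupOf]
        show k⁻¹ * (d : G) ∈ V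
        rw [← hkv, inv_mul_cancel_left]
        exact hv
  let ψ : ↥(cz t) →* AutM22 :=
    (iso.toMonoidHom.comp (MulEquiv.ofBijective q hq).symm.toMonoidHom).comp (QuotientGroup.mk' _)
  have hψ : ∀ d, ψ d = 1 ↔ (d : G) ∈ V := fun d => by
    simp only [ψ, MonoidHom.comp_apply, MulEquiv.coe_toMonoidHom, map_eq_one_iff _ iso.injective,
      map_eq_one_iff _ (MulEquiv.ofBijective q hq).symm.injective, QuotientGroup.mk'_apply,
      QuotientGroup.eq_one_iff, Subgroup.mem_subgroupOf]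
  set σ : ↥(cz t) := ⟨s, mem_cz.mpr hts.symm⟩
  have hb : orderOf (ψ σ) = 7 := by
    refine orderOf_eq_prime ?_ fun h => ?_
    · rw [← map_pow, show σ ^ 7 = 1 from Subtype.ext (orderOf_seven_pow T.ord), map_one]
    · have h2 := elem_sq hel ((hψ σ).mp h)
      have := orderOf_dvd_of_pow_eq_one (show s ^ 2 = 1 by rw [sq]; exact h2)
      rw [T.ord] at this
      norm_num at this
  let m : ↥(cz t ⊓ cz s) →* AutM22 := ψ.comp (Subgroup.inclusion inf_le_left)
  have hrange : m.range ≤ Subgroup.centralizer ({ψ σ} : Set AutM22) := by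
    rintro _ ⟨d, rfl⟩
    refine mem_centralizer_single.mpr ?_
    show ψ _ * ψ σ = ψ σ * ψ _
    rw [← map_mul, ← map_mul]
    exact congrArg ψ (Subtype.ext (mem_cz.mp d.2.2).eq)
  have hker : Nat.card ↥m.ker = Nat.card ↥(V ⊓ cz s) :=
    Nat.card_congr ⟨fun d => ⟨d.1.1, (hψ _).mp d.2, d.1.2.2⟩,
      fun v => ⟨⟨v.1, hVle v.2.1, v.2.2⟩, (hψ _).mpr v.2.1⟩, fun _ => rfl, fun _ => rfl⟩
  have h := Subgroup.card_mul_index m.ker
  rw [Subgroup.index_ker, hker] at h
  rw [← h, mul_comm 14]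
  refine Nat.mul_dvd_mul_left _ ?_
  rw [← F7.cent _ hb]
  exact Subgroup.card_dvd_of_le hrange

theorem card_cent_conj (T : Seven z p s) (F : AutFacts) (F7 : SevenFacts) {u : G}
    (hu : IsConj z u) (hus : Commute u s) : Nat.card ↥(cz u ⊓ cz s) = 84 := by
  obtain ⟨n, hn, hmem, ho⟩ := exists_normalising T F hu hus
  subst hn
  rw [← T.card_cent F7]
  have hse : s ∈ Subgroup.zpowers (n⁻¹ * s * n) :=
    (zpowers_eq_of_seven ho T.ord hmem).ge (Subgroup.mem_zpowers s)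
  refine Nat.card_congr
    { toFun := fun y => ⟨n⁻¹ * y * n, ?_, ?_⟩
      invFun := fun x => ⟨n * x * n⁻¹, ?_, ?_⟩
      left_inv := fun y => Subtype.ext (by dsimp; group)
      right_inv := fun x => Subtype.ext (by dsimp; group) }
  · refine mem_cz.mpr ?_
    have := (mem_cz.mp y.2.1).map (MulAut.conj n⁻¹)
    simp only [MulAut.conj_apply, inv_inv] at this
    rwa [show n⁻¹ * (n * z * n⁻¹) * n = z by group] at this
  · refine mem_cz.mpr (commute_of_zpowers hse ?_)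
    have := (mem_cz.mp y.2.2).map (MulAut.conj n⁻¹)
    simp only [MulAut.conj_apply, inv_inv] at this
    exact this
  · refine mem_cz.mpr ?_
    exact (mem_cz.mp x.2.1).map (MulAut.conj n)
  · refine mem_cz.mpr ?_
    have := (commute_of_zpowers hmem (mem_cz.mp x.2.2)).map (MulAut.conj n)
    simp only [MulAut.conj_apply] at this
    rwa [show n * (n⁻¹ * s * n) * n⁻¹ = s by group] at this

theorem exists_inverting_three (T : Seven z p s) (F : AutFacts) (F7 : SevenFacts) {u : G}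
    (hu : IsConj z u) (hus : Commute u s) :
    ∃ q, orderOf q = 3 ∧ Commute q s ∧ Commute q u ∧
      ∀ d, orderOf d = 2 → Commute d s → Commute d u → d ≠ u → d * q * d⁻¹ = q⁻¹ := by
  obtain ⟨n, hn, hmem, ho⟩ := exists_normalising T F hu hus
  have hse : s ∈ Subgroup.zpowers (n⁻¹ * s * n) :=
    (zpowers_eq_of_seven ho T.ord hmem).ge (Subgroup.mem_zpowers s)
  refine ⟨n * p * n⁻¹, (MulEquiv.orderOf_eq (MulAut.conj n) p).trans T.S.ord_p, ?_,
    hn ▸ T.S.p_z.map (MulAut.conj n), fun d hd hds hdu hne => ?_⟩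
  · have := (commute_of_zpowers hmem T.sp.symm).map (MulAut.conj n)
    simp only [MulAut.conj_apply] at this
    rwa [show n * (n⁻¹ * s * n) * n⁻¹ = s by group] at this
  · obtain ⟨hd2, hd1⟩ := Involutions.Basic.invol_iff.mp hd
    have e1 : Commute (n⁻¹ * d * n) z := by
      have := hdu.map (MulAut.conj n⁻¹)
      simp only [MulAut.conj_apply, inv_inv] at this
      rwa [← hn, show n⁻¹ * (n * z * n⁻¹) * n = z by group] at this
    have e2 : Commute (n⁻¹ * d * n) s := by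
      refine commute_of_zpowers hse ?_
      have := hds.map (MulAut.conj n⁻¹)
      simp only [MulAut.conj_apply, inv_inv] at this
      exact this
    have h := T.inverts F F7 e1 e2
      (by rw [show n⁻¹ * d * n * (n⁻¹ * d * n) = n⁻¹ * (d * d) * n by group, hd2]; group)
      (fun h => hd1 (by rw [show d = n * (n⁻¹ * d * n) * n⁻¹ by group, h]; group))
      (fun h => hne (by rw [show d = n * (n⁻¹ * d * n) * n⁻¹ by group, h, hn]))
    calc d * (n * p * n⁻¹) * d⁻¹ =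
        n * ((n⁻¹ * d * n) * p * (n⁻¹ * d * n)⁻¹) * n⁻¹ := by group
      _ = _ := by rw [h]; group

/-- The local hypotheses hold in `C(s)`. -/
theorem local_of_inputs [IsSimpleGroup G] (hG : ¬ IsMulCommutative G) (T : Seven z p s)
    (F : AutFacts) (F7 : SevenFacts) (I : Inputs z)
    (h73 : ∃ a b : M24, orderOf a = 7 ∧ orderOf b = 3 ∧ a * b = b * a) :
    Sylow2.Local (W := ↥(cz s)) (fun u => IsConj z (u : G))
      ⟨s, mem_cz.mpr (Commute.refl s)⟩ := by
  have hcard : ∀ u : ↥(cz s), Nat.card ↥(Subgroup.centralizer ({u} : Set ↥(cz s))) =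
      Nat.card ↥(cz (u : G) ⊓ cz s) := fun u => by
    refine Nat.card_congr ⟨fun d => ⟨d.1.1, mem_cz.mpr
        (congrArg Subtype.val (Sylow2.mem_cent.mp d.2).eq), d.1.2⟩,
      fun d => ⟨⟨d.1, d.2.2⟩, Sylow2.mem_cent.mpr (Subtype.ext (mem_cz.mp d.2.1).eq)⟩,
      fun _ => rfl, fun _ => rfl⟩
  refine ⟨fun g u hu => hu.trans (isConj_iff.mpr ⟨g, rfl⟩),
    fun g => Subtype.ext (mem_cz.mp g.2).eq, by rw [Subgroup.orderOf_mk, T.ord], fun u hu => ?_,
    ⟨⟨z, mem_cz.mpr T.sz.symm⟩, IsConj.refl z⟩,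
    fun u hu => (hcard u).trans (card_cent_conj T F F7 hu (mem_cz.mp u.2)),
    fun u hu => ?_, fun t ht htn => ?_, ?_⟩
  · obtain ⟨g, hg⟩ := isConj_iff.mp hu
    rw [← Subgroup.orderOf_coe, ← hg]
    exact (MulEquiv.orderOf_eq (MulAut.conj g) z).trans T.S.ord_z
  · obtain ⟨q, hq, hqs, hqu, hall⟩ := exists_inverting_three T F F7 hu (mem_cz.mp u.2)
    refine ⟨⟨q, mem_cz.mpr hqs⟩, by rw [Subgroup.orderOf_mk, hq], Subtype.ext hqu.eq,
      fun d hd hdu hne => Subtype.ext ?_⟩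
    exact hall d (by rw [Subgroup.orderOf_coe, hd]) (mem_cz.mp d.2)
      (congrArg Subtype.val hdu.eq) fun h => hne (Subtype.ext h)
  · obtain ⟨V, hVle, hV2, htV, hVn, hdvd⟩ :=
      exists_normal_two T F7 I (by rw [Subgroup.orderOf_coe, ht]) htn (mem_cz.mp t.2)
    refine ⟨V.subgroupOf (cz s), fun d hd => Sylow2.mem_cent.mpr
        (Subtype.ext (mem_cz.mp (hVle (Subgroup.mem_subgroupOf.mp hd))).eq),
      htV, fun b hb => Subtype.ext (hV2 _ hb), fun d hd b hb =>
        hVn _ (mem_cz.mpr (congrArg Subtype.val (Sylow2.mem_cent.mp hd).eq)) _ hb, ?_⟩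
    rw [hcard, show Nat.card ↥(V.subgroupOf (cz s)) = Nat.card ↥(V ⊓ cz s) from
      Nat.card_congr ⟨fun d => ⟨d.1.1, d.2, d.1.2⟩, fun d => ⟨⟨d.1, d.2.2⟩, d.2.1⟩,
        fun _ => rfl, fun _ => rfl⟩]
    exact hdvd
  · obtain ⟨V, c, hV, hVc, hsV, hcV, hc3, hcs⟩ := exists_four hG T F I h73
    refine ⟨V.subgroupOf (cz s), fun b hb => Subtype.ext (elem_sq hV hb), ?_,
      ⟨c, mem_cz.mpr hcs⟩, by rw [Subgroup.orderOf_mk, hc3],
      fun b hb => (Subgroup.mem_normalizer_iff.mp hcV _).mp hb⟩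
    refine (card_nonconj T I hV hVc hsV).trans (le_of_eq (Nat.card_congr ?_))
    exact ⟨fun v => ⟨⟨v.1, mem_cz.mpr v.2.1.2⟩, v.2.1.1, v.2.2⟩,
      fun v => ⟨v.1.1, ⟨v.2.1, mem_cz.mp v.1.2⟩, v.2.2⟩, fun _ => rfl, fun _ => rfl⟩

end Cfsg.Agent.Lib.J4Seven
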